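import Mathlib
import Cfsg.Agent.FrD.Api

/-!
S3256 (port of Q2 without nc, p ≥ 5), core: a class `D` of subgroups of odd prime order `p` ("points"), any two generating a group
`Q A` with `Q` a `q`-group (used with `q = 2`).  Port of `FrD/Defs`, `FrD/Api` without `q ≠ 2`;
`dcl`, `rad`, `Sm`, `Blk`, `Concl` are those of `FrD/Defs`.
-/

set_option autoImplicit false
set_option linter.unusedSectionVars false

namespace Cfsg.Agent.Q3

open Subgroup Cfsg Cfsg.Agent.PLocal.Amb Cfsg.Agent.FrD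
open scoped commutatorElement

variable {G : Type*} [Group G]

/-- The basic part of the hypothesis. -/
structure Pre (p q : ℕ) (D : Set (Subgroup G)) : Prop where
  pp : p.Prime
  p2 : p ≠ 2
  qp : q.Prime
  pq : p ≠ q
  card : ∀ A ∈ D, Nat.card A = p
  inv : ∀ A ∈ D, ∀ g : G, cj(g, A) ∈ D
  line : ∀ A ∈ D, ∀ B ∈ D, ∃ Q : Subgroup G, IsPGroup q Q ∧ A ≤ 𝐍[Q] ∧ B ≤ Q ⊔ A

/-- The inductive hypothesis. -/
structure Hyp (p q : ℕ) (D : Set (Subgroup G)) : Prop extends Pre p q D where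
  n1 : ∀ A ∈ D, ∀ P : Subgroup G, IsPGroup q P → A ≤ 𝐍[P] → ⁅P, A⁆ ⊓ 𝐂[A] ≤ 𝐂[⁅P, A⁆]
  n2 : ∀ A ∈ D, ∀ P : Subgroup G, IsPGroup q P → A ≤ 𝐍[P] → ⁅⁅P, A⁆, ⁅P, A⁆⁆ ≤ 𝐂[A]
  n3 : ∀ A ∈ D, ∀ P : Subgroup G, IsPGroup q P → A ≤ 𝐍[P] → ∀ x ∈ ⁅P, A⁆, x * x ∈ 𝐂[A]
  n4 : ∀ A ∈ D, ∀ P : Subgroup G, IsPGroup q P → A ≤ 𝐍[P] → ∀ x ∈ ⁅P, A⁆ ⊓ 𝐂[A], x * x = 1

/-- Minimal counterexample. -/
structure Ce (p q : ℕ) (D : Set (Subgroup G)) : Prop extends Hyp p q D where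
  gen : sSup D = ⊤
  two : ∃ A ∈ D, ∃ B ∈ D, A ≠ B
  oq : ∀ K : Subgroup G, K.Normal → IsPGroup q K → K = ⊥
  sm : ∀ H : Subgroup G, H ≠ ⊤ → Sm q D H

variable {p q : ℕ} {D : Set (Subgroup G)}

namespace Pre

variable (h : Pre p q D)
include h

theorem dcl_cj (g : G) (H : Subgroup G) : dcl D cj(g, H) = cj(g, dcl D H) := by
  have key : ∀ (g : G) (H : Subgroup G), dcl D cj(g, H) ≤ cj(g, dcl D H) := fun g H =>
    dcl_le_iff.2 fun B hB hBH => le_cj_iff.2 (le_dcl (h.inv B hB _) (le_cj_iff.1 hBH))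
  refine le_antisymm (key g H) (cj_le_iff.2 ?_)
  have := key g⁻¹ cj(g, H)
  rwa [cj_inv_cj] at this

theorem rad_cj (g : G) (H : Subgroup G) : rad D cj(g, H) = cj(g, rad D H) := by
  rw [rad, h.dcl_cj, commutator_cj, rad]

theorem normalizer_le_dcl (H : Subgroup G) : 𝐍[H] ≤ 𝐍[dcl D H] := fun g hg => by
  rw [← cj_eq_iff, ← h.dcl_cj, cj_of_mem_normalizer hg]

theorem normalizer_le_rad (H : Subgroup G) : 𝐍[H] ≤ 𝐍[rad D H] :=
  (h.normalizer_le_dcl H).trans (normalizer_dcl_le H)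

theorem le_normalizer_dcl (H : Subgroup G) : H ≤ 𝐍[dcl D H] :=
  le_normalizer.trans (h.normalizer_le_dcl H)

theorem le_normalizer_rad (H : Subgroup G) : H ≤ 𝐍[rad D H] :=
  le_normalizer.trans (h.normalizer_le_rad H)

theorem blk_cj {M : Subgroup G} (hM : Blk D M) (g : G) : Blk D cj(g, M) where
  ne_top := fun e => hM.ne_top (cj_eq_top.1 e)
  eq := by rw [h.dcl_cj, hM.eq]
  max := fun H hH hle => by
    rw [le_cj_iff, ← h.dcl_cj]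
    exact hM.max _ (fun e => hH (cj_eq_top.1 e)) (cj_le_iff.1 hle)

end Pre

variable [Finite G]

namespace Pre

variable (h : Pre p q D) {A B P H : Subgroup G}
include h

theorem pg (hA : A ∈ D) : IsPGroup p A :=
  IsPGroup.of_card (n := 1) (by rw [h.card A hA, pow_one])

theorem ne_bot (hA : A ∈ D) : A ≠ ⊥ := fun e =>
  h.pp.one_lt.ne' (by rw [← h.card A hA, e, card_bot])

theorem exists_gen (hA : A ∈ D) : ∃ a : G, orderOf a = p ∧ zpowers a = A := by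
  have := Fact.mk h.pp
  obtain ⟨a, ha⟩ := (Subgroup.isCyclic_iff_exists_zpowers_eq_top A).1
    (isCyclic_of_prime_card (h.card A hA))
  exact ⟨a, by rw [← Nat.card_zpowers, ha, h.card A hA], ha⟩

theorem comm (hA : A ∈ D) : A ≤ 𝐂[A] := by
  obtain ⟨a, -, rfl⟩ := h.exists_gen hA
  exact le_centralizer _

theorem cop (hA : A ∈ D) (hP : IsPGroup q P) : (Nat.card A).Coprime (Nat.card P) := by
  have := Fact.mk h.qp
  rw [h.card A hA]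
  exact Solv.coprime_card_of_isPGroup hP ((Nat.coprime_primes h.pp h.qp).2 h.pq)

theorem inf_eq_bot (hA : A ∈ D) (hP : IsPGroup q P) : P ⊓ A = ⊥ :=
  (hP.disjoint_of_coprime (h.pg hA) ((Nat.coprime_primes h.qp h.pp).2 h.pq.symm)).eq_bot

theorem comm_sup (hA : A ∈ D) (hP : IsPGroup q P) (hn : A ≤ 𝐍[P]) : ⁅P, A⁆ ⊔ (P ⊓ 𝐂[A]) = P :=
  have := Fact.mk h.qp
  Solv.coprime_commutator_sup_centralizer A P hn (h.cop hA hP) (.inr (Solv.isSolvable_of_isPGroup hP))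

theorem comm_comm (hA : A ∈ D) (hP : IsPGroup q P) (hn : A ≤ 𝐍[P]) : ⁅⁅P, A⁆, A⁆ = ⁅P, A⁆ :=
  have := Fact.mk h.qp
  Solv.coprime_commutator_commutator A P hn (h.cop hA hP) (.inr (Solv.isSolvable_of_isPGroup hP))

theorem cent_of_norm (hA : A ∈ D) (hP : IsPGroup q P) (hn : A ≤ 𝐍[P]) {x : G} (hx : x ∈ P)
    (hxA : x ∈ 𝐍[A]) : x ∈ 𝐂[A] := fun a ha => by
  have : a * x * a⁻¹ * x⁻¹ ∈ P ⊓ A := ⟨P.mul_mem (conj_mem_of_mem_normalizer (hn ha) hx)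
    (P.inv_mem hx), by
    rw [show a * x * a⁻¹ * x⁻¹ = a * (x * a⁻¹ * x⁻¹) by group]
    exact A.mul_mem ha (conj_mem_of_mem_normalizer hxA (inv_mem ha))⟩
  rw [h.inf_eq_bot hA hP, mem_bot, mul_inv_eq_one, mul_inv_eq_iff_eq_mul] at this
  exact this

theorem isSyl (hA : A ∈ D) (hP : IsPGroup q P) (hn : A ≤ 𝐍[P]) : IsSyl p A (P ⊔ A) :=
  ⟨le_sup_right, h.pg hA, fun R hR h1 h2 => by
    have := sup_inf_of_le_normalizer h1 hn
    rw [sup_comm, inf_eq_right.2 h2, (hP.disjoint_of_coprime hR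
      ((Nat.coprime_primes h.qp h.pp).2 h.pq.symm)).eq_bot, sup_bot_eq] at this
    exact this.le⟩

theorem exists_cj_of_le (hA : A ∈ D) (hB : B ∈ D) (hP : IsPGroup q P) (hn : A ≤ 𝐍[P])
    (hle : B ≤ P ⊔ A) : ∃ x ∈ ⁅P, A⁆, B = cj(x, A) := by
  have := Fact.mk h.pp
  have := Fact.mk h.qp
  obtain ⟨g, hg, e⟩ := (h.isSyl hA hP hn).exists_le_cj (h.pg hB) hle
  obtain ⟨y, hy, a, ha, rfl⟩ := (mem_sup_of_le_normalizer_left hn).1 hg
  obtain ⟨c, hc, d, hd, e'⟩ := Solv.coprime_exists_centralizer_mul_commutator A P hn (h.cop hA hP)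
    (.inr (Solv.isSolvable_of_isPGroup hP)) y⁻¹ (inv_mem hy)
  rw [← inv_inv y, e', mul_inv_rev, cj_mul, cj_mul, cj_of_mem ha,
    cj_of_mem_normalizer (inv_mem (centralizer_le_normalizer' A hc.2))] at e
  exact ⟨d⁻¹, inv_mem hd, eq_of_le_of_card_ge e (by rw [card_cj, h.card A hA, h.card B hB])⟩

theorem eq_of_isPGroup (hA : A ∈ D) (hB : B ∈ D) {T : Subgroup G} (hT : IsPGroup p T)
    (hAT : A ≤ T) (hBT : B ≤ T) : A = B := by
  obtain ⟨Q, hQ, hn, hle⟩ := h.line A hA B hB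
  exact (eq_of_le_of_card_ge (le_sup_right.trans ((h.isSyl hA hQ hn).max (A ⊔ B)
    (hT.to_le (sup_le hAT hBT)) le_sup_left (sup_le le_sup_right hle)))
    (by rw [h.card A hA, h.card B hB])).symm

theorem eq_of_le_normalizer (hA : A ∈ D) (hB : B ∈ D) (hn : B ≤ 𝐍[A]) : A = B :=
  h.eq_of_isPGroup hA hB (isPGroup_sup (h.pg hB) (h.pg hA) hn) le_sup_right le_sup_left

theorem comm_le_dcl (hA : A ∈ D) (hPH : P ≤ H) (hAH : A ≤ H) : ⁅P, A⁆ ≤ dcl D H :=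
  commutator_le.2 fun x hx _ ha => mul_mem
    (le_dcl (h.inv A hA x) (cj_le_of_mem hAH (hPH hx)) (conj_mem_cj x ha)) (inv_mem (le_dcl hA hAH ha))

theorem comm_le_rad (hA : A ∈ D) (hP : IsPGroup q P) (hn : A ≤ 𝐍[P]) (hPH : P ≤ H) (hAH : A ≤ H) :
    ⁅P, A⁆ ≤ rad D H :=
  (h.comm_comm hA hP hn).ge.trans (commutator_mono (h.comm_le_dcl hA hPH hAH) (le_dcl hA hAH))

theorem sm_of (hA : A ∈ D) (hP : IsPGroup q P) (hn : A ≤ 𝐍[P]) (hAH : A ≤ H)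
    (hle : ∀ B ∈ D, B ≤ H → B ≤ P ⊔ A) : Sm q D H := by
  have a1 := le_dcl hA hAH
  have hP' : IsPGroup q ↥(P ⊓ dcl D H) := hP.to_inf_left
  have hn' : A ≤ 𝐍[P ⊓ dcl D H] := le_normalizer_inf hn (a1.trans le_normalizer)
  have e1 : dcl D H = P ⊓ dcl D H ⊔ A := by
    have := sup_inf_of_le_normalizer a1 hn
    rwa [sup_comm, inf_eq_right.2 (dcl_le_iff.2 hle), sup_comm] at this
  have hH : P ⊓ dcl D H ≤ H := inf_le_right.trans (dcl_le H)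
  generalize P ⊓ dcl D H = P' at hP' hn' e1 hH
  have key : ∀ B ∈ D, B ≤ H → ∃ x ∈ ⁅P', A⁆, B = cj(x, A) := fun B hB hBH =>
    h.exists_cj_of_le hA hB hP' hn' ((le_dcl hB hBH).trans e1.le)
  have e2 : dcl D H = ⁅P', A⁆ ⊔ A := le_antisymm (dcl_le_iff.2 fun B hB hBH => by
    obtain ⟨x, hx, rfl⟩ := key B hB hBH
    exact cj_le_of_mem le_sup_right (mem_sup_left hx)) (sup_le (h.comm_le_dcl hA hH hAH) a1)
  have e3 : rad D H = ⁅P', A⁆ := le_antisymm (by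
    rw [rad, e2]
    exact api_comm_le (Solv.le_normalizer_commutator_right _ _) (h.comm hA))
    (h.comm_le_rad hA hP' hn' hH hAH)
  refine ⟨e3 ▸ hP'.to_le (Solv.commutator_le_of_le_normalizer hn'), fun B hB hBH => ?_⟩
  obtain ⟨x, hx, rfl⟩ := key B hB hBH
  rw [e2, e3]
  constructor
  · rw [← cj_of_mem (Q := ⁅P', A⁆ ⊔ A) (mem_sup_left hx), cj_sup, cj_of_mem hx]
  · conv_lhs => rw [← cj_of_mem hx, commutator_cj, h.comm_comm hA hP' hn', cj_of_mem hx]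

theorem sm_line (hA : A ∈ D) (hB : B ∈ D) : Sm q D (A ⊔ B) := by
  obtain ⟨Q, hQ, hn, hle⟩ := h.line A hA B hB
  exact h.sm_of hA hQ hn le_sup_left fun _ _ e => e.trans (sup_le le_sup_right hle)

/-- On a line `L = A ⊔ B`: `L = L' A`, `L' = rad D L` a `q`-group. -/
theorem line_eq (hA : A ∈ D) (hB : B ∈ D) : rad D (A ⊔ B) = ⁅A ⊔ B, A ⊔ B⁆ ∧
    rad D (A ⊔ B) ⊔ A = A ⊔ B :=
  ⟨by rw [rad, dcl_sup hA hB], by rw [← ((h.sm_line hA hB).2 A hA le_sup_left).1, dcl_sup hA hB]⟩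

theorem exists_cj (hs : Sm q D H) (hA : A ∈ D) (hB : B ∈ D) (hAH : A ≤ H) (hBH : B ≤ H) :
    ∃ x ∈ rad D H, B = cj(x, A) :=
  (hs.2 A hA hAH).2 ▸ h.exists_cj_of_le hA hB hs.1 (hAH.trans (h.le_normalizer_rad H))
    ((le_dcl hB hBH).trans (hs.2 A hA hAH).1.le)

end Pre

namespace Ce

variable (h : Ce p q D) {A B H M X : Subgroup G}
include h

theorem normalizer_ne_top (hX : IsPGroup q X) (h1 : X ≠ ⊥) : 𝐍[X] ≠ ⊤ := fun e =>
  h1 (h.oq X (normalizer_eq_top_iff.1 e) hX)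

theorem cent_ne_top (hX : IsPGroup q X) {x : G} (hx : x ∈ X) (h1 : x ≠ 1) :
    centralizer ({x} : Set G) ≠ ⊤ := fun e =>
  h.normalizer_ne_top (hX.to_le (zpowers_le.2 hx)) (fun c => h1 (zpowers_eq_bot.1 c))
    (top_le_iff.1 (e.ge.trans ((centralizer_zpowers x).ge.trans (centralizer_le_normalizer' _))))

/-- `R A ≠ ⊤` for an `A`-invariant `q`-group `R`. -/
theorem sup_ne_top (hA : A ∈ D) (hX : IsPGroup q X) (hn : A ≤ 𝐍[X]) : X ⊔ A ≠ ⊤ := fun e => by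
  have hX1 : X = ⊥ := by
    by_contra c
    exact h.normalizer_ne_top hX c (top_le_iff.1 (e.ge.trans (sup_le le_normalizer hn)))
  rw [hX1, bot_sup_eq] at e
  obtain ⟨B, hB, B', hB', ne⟩ := h.two
  exact ne (h.eq_of_isPGroup hB hB' (h.pg hA) (le_top.trans e.ge) (le_top.trans e.ge))

theorem line_ne_top (hA : A ∈ D) (hB : B ∈ D) : A ⊔ B ≠ ⊤ := fun e => by
  obtain ⟨Q, h1, h2, h3⟩ := h.line A hA B hB
  exact h.sup_ne_top hA h1 h2 (top_le_iff.1 (e.ge.trans (sup_le le_sup_right h3)))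

theorem rad_pg (hH : H ≠ ⊤) : IsPGroup q (rad D H) := (h.sm H hH).1

theorem dcl_eq (hH : H ≠ ⊤) (hA : A ∈ D) (hAH : A ≤ H) : dcl D H = rad D H ⊔ A :=
  ((h.sm H hH).2 A hA hAH).1

theorem rad_comm (hH : H ≠ ⊤) (hA : A ∈ D) (hAH : A ≤ H) : ⁅rad D H, A⁆ = rad D H :=
  ((h.sm H hH).2 A hA hAH).2

/-- `C_R(A)` is central in `R A`. -/
theorem cent_rad (hH : H ≠ ⊤) (hA : A ∈ D) (hAH : A ≤ H) : rad D H ⊓ 𝐂[A] ≤ 𝐂[dcl D H] := by
  have := h.n1 A hA _ (h.rad_pg hH) (hAH.trans (h.le_normalizer_rad H))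
  rw [h.rad_comm hH hA hAH] at this
  rw [h.dcl_eq hH hA hAH, centralizer_sup]
  exact le_inf this inf_le_right

theorem rad_cases (hH : H ≠ ⊤) (hA : A ∈ D) (hAH : A ≤ H) :
    rad D H ⊓ 𝐂[A] = ⊥ ∨ ⁅rad D H, rad D H⁆ ≤ 𝐂[A] := by
  have := h.n2 A hA _ (h.rad_pg hH) (hAH.trans (h.le_normalizer_rad H))
  rw [h.rad_comm hH hA hAH] at this
  exact .inr this

theorem rad_sq (hH : H ≠ ⊤) (hA : A ∈ D) (hAH : A ≤ H) {x : G} (hx : x ∈ rad D H) :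
    x * x ∈ rad D H ⊓ 𝐂[A] :=
  ⟨mul_mem hx hx, h.n3 A hA _ (h.rad_pg hH) (hAH.trans (h.le_normalizer_rad H)) x
    ((h.rad_comm hH hA hAH).ge hx)⟩

theorem z_sq (hH : H ≠ ⊤) (hA : A ∈ D) (hAH : A ≤ H) {x : G} (hx : x ∈ rad D H ⊓ 𝐂[A]) :
    x * x = 1 :=
  h.n4 A hA _ (h.rad_pg hH) (hAH.trans (h.le_normalizer_rad H)) x
    ⟨(h.rad_comm hH hA hAH).ge hx.1, hx.2⟩

theorem blk_eq (hM : Blk D M) (hA : A ∈ D) (hAM : A ≤ M) : M = rad D M ⊔ A :=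
  hM.eq.symm.trans (h.dcl_eq hM.ne_top hA hAM)

theorem normalizer_blk_ne_top (hM : Blk D M) (hA : A ∈ D) (hAM : A ≤ M) : 𝐍[M] ≠ ⊤ := fun e => by
  have h1 : rad D M = ⊥ := by
    by_contra c
    exact h.normalizer_ne_top (h.rad_pg hM.ne_top) c
      (top_le_iff.1 (e.ge.trans (h.normalizer_le_rad M)))
  have h2 := h.blk_eq hM hA hAM
  rw [h1, bot_sup_eq] at h2
  obtain ⟨B, hB, B', hB', ne⟩ := h.two
  have k : ∀ X ∈ D, A = X := fun X hX => h.eq_of_le_normalizer hA hX (h2 ▸ le_top.trans e.ge)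
  exact ne ((k B hB).symm.trans (k B' hB'))

/-- The points in `𝐍[M]` lie in `M`. -/
theorem dcl_normalizer (hM : Blk D M) (hA : A ∈ D) (hAM : A ≤ M) : dcl D 𝐍[M] = M :=
  le_antisymm (hM.max _ (h.normalizer_blk_ne_top hM hA hAM) le_normalizer)
    (hM.eq.ge.trans (dcl_mono le_normalizer))

/-- An `A`-invariant `q`-group normalising a block `M ∋ A` has `[X, A] ≤ rad M`. -/
theorem comm_le_rad_blk (hM : Blk D M) (hA : A ∈ D) (hAM : A ≤ M) (hX : IsPGroup q X)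
    (hn : A ≤ 𝐍[X]) (hXM : X ≤ 𝐍[M]) : ⁅X, A⁆ ≤ rad D M :=
  (h.comm_le_rad hA hX hn hXM (hAM.trans le_normalizer)).trans
    (rad_le_rad (h.dcl_normalizer hM hA hAM).le)

end Ce

end Cfsg.Agent.Q3
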