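import Mathlib
import Cfsg.Agent.Q3.Defs
import Cfsg.Agent.FrD.Inh
import Cfsg.Agent.FrD.Red

/-!
S3256 (port of Q2 without nc, p ≥ 5): inheritance and reduction.  PORT of `FrD/Inh` and of the first part of `FrD/Red` (copy the
proofs; `FrD.exists_lift` can be cited with `Or.inl`; no field `two`, new fields `nc, n3, n4`).
-/

set_option autoImplicit false
set_option linter.unusedSectionVars false
set_option linter.unusedVariables false

namespace Cfsg.Agent.Q3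

open Subgroup Cfsg Cfsg.Agent.PLocal.Amb Cfsg.Agent.FrD
open scoped commutatorElement

universe u

variable {G : Type*} [Group G] [Finite G] {p q : ℕ} {D : Set (Subgroup G)}

/-- PROOF.  As `FrD.Hyp.sub`; `nc` by `normalizer_eq_subgroupOf`-type transport (`le_normalizer_map`,
`centralizer_eq_subgroupOf`), `n3`, `n4` elementwise. -/
theorem Hyp.sub (h : Hyp p q D) (H : Subgroup G) :
    Hyp p q {A : Subgroup H | A.map H.subtype ∈ D} := by
  have i := H.subtype_injective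
  have n : ∀ {A P : Subgroup H}, A ≤ 𝐍[P] → A.map H.subtype ≤ 𝐍[P.map H.subtype] := fun hn =>
    (map_mono hn).trans (le_normalizer_map _)
  refine { h with card := ?_, inv := ?_, line := ?_, n1 := ?_, n2 := ?_, n3 := ?_, n4 := ?_ }
  · exact fun A hA => (card_map_of_injective i).symm.trans (h.card _ hA)
  · exact fun A hA g => (congrArg (· ∈ D) (map_subtype_cj H g A)).mpr (h.inv _ hA g)
  · intro A hA B hB
    obtain ⟨Q, h1, h2, h3⟩ := h.line _ hA _ hB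
    refine ⟨Q.subgroupOf H, isPGroup_subgroupOf h1 H,
      (map_le_iff_le_comap.1 h2).trans (le_normalizer_comap _), fun b hb => ?_⟩
    obtain ⟨x, hx, _, ⟨a, ha, rfl⟩, e⟩ := (mem_sup_of_le_normalizer_left h2).1 (h3 ⟨b, hb, rfl⟩)
    rw [← inv_mul_cancel_right b a]
    exact mul_mem_sup (mem_subgroupOf.2 ((congrArg (· ∈ Q) (mul_inv_eq_of_eq_mul e)).mpr hx)) ha
  · intro A hA P hP hn x hx
    have := h.n1 _ hA _ (hP.map _) (n hn)
    rw [← map_commutator] at this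
    rw [centralizer_eq_subgroupOf] at hx ⊢
    exact this ⟨⟨x, hx.1, rfl⟩, hx.2⟩
  · intro A hA P hP hn
    have := h.n2 _ hA _ (hP.map _) (n hn)
    rw [← map_commutator, ← map_commutator] at this
    rw [centralizer_eq_subgroupOf]
    exact map_le_iff_le_comap.1 this
  · intro A hA P hP hn x hx
    have := h.n3 _ hA _ (hP.map _) (n hn)
    rw [← map_commutator] at this
    rw [centralizer_eq_subgroupOf]
    exact this x ⟨x, hx, rfl⟩
  · intro A hA P hP hn x hx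
    have := h.n4 _ hA _ (hP.map _) (n hn)
    rw [← map_commutator] at this
    rw [centralizer_eq_subgroupOf] at hx
    exact i (this x ⟨⟨x, hx.1, rfl⟩, hx.2⟩)

/-- copy of `FrD.Pre.sm_of_concl` -/
theorem Pre.sm_of_concl (h : Pre p q D) (H : Subgroup G)
    (hc : Concl q {A : Subgroup H | A.map H.subtype ∈ D}) : Sm q D H := by
  by_cases e : ∃ A ∈ D, A ≤ H
  · obtain ⟨A, hA, hAH⟩ := e
    have m : ∀ B ∈ D, B ≤ H → (B.subgroupOf H).map H.subtype ∈ D := fun B hB hBH =>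
      (map_subgroupOf_of_le hBH).symm ▸ hB
    obtain ⟨R, h1, h2, h3⟩ := hc (A.subgroupOf H) (m A hA hAH)
    refine h.sm_of hA (h2.map H.subtype) (hAH.trans (le_normalizer_map_subtype R)) hAH fun B hB hBH => ?_
    have := map_mono (f := H.subtype) (h3 _ (m B hB hBH))
    rwa [Subgroup.map_sup, map_subgroupOf_of_le hBH, map_subgroupOf_of_le hAH] at this
  · exact ⟨IsPGroup.of_bot.to_le ((rad_le_dcl H).trans (dcl_le_iff.2 fun B hB hBH => (e ⟨B, hB, hBH⟩).elim)),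
      fun A hA hAH => (e ⟨A, hA, hAH⟩).elim⟩

/-- PROOF.  As `FrD.Hyp.quot` (`A ⊓ K = ⊥` by `inf_eq_bot`).  `nc`: if `π g` normalises `A.map π` then
`cj(g, A) ≤ K ⊔ A`, so `cj(g, A) = cj(k, A)` with `k ∈ ⁅K, A⁆ ≤ K` (`exists_cj_of_le`),
`k⁻¹ g ∈ 𝐍[A] ≤ 𝐂[A]`, and `π g = π (k⁻¹ g)`.  `n3`: lift `x` to `⁅P, A⁆`.  `n4`: the auxiliary
statement `l` of `FrD.Hyp.quot` lifts `x` to `⁅P, A⁆ ⊓ 𝐂[A]`. -/
theorem Hyp.quot (h : Hyp p q D) (K : Subgroup G) [K.Normal] (hK : IsPGroup q K) :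
    Hyp p q ((fun A : Subgroup G => A.map (QuotientGroup.mk' K)) '' D) := by
  have s := QuotientGroup.mk'_surjective K
  have c : ∀ X : Subgroup G, (𝐂[X]).map (QuotientGroup.mk' K) ≤ 𝐂[X.map (QuotientGroup.mk' K)] := by
    rintro X _ ⟨x, hx, rfl⟩ _ ⟨y, hy, rfl⟩
    rw [← map_mul, hx y hy, map_mul]
  have l : ∀ A ∈ D, ∀ P' : Subgroup (G ⧸ K), IsPGroup q P' → A.map (QuotientGroup.mk' K) ≤ 𝐍[P'] →
      ∃ P : Subgroup G, IsPGroup q P ∧ A ≤ 𝐍[P] ∧ P.map (QuotientGroup.mk' K) = P' ∧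
        ⁅P', A.map (QuotientGroup.mk' K)⁆ ⊓ 𝐂[A.map (QuotientGroup.mk' K)] ≤
          (⁅P, A⁆ ⊓ 𝐂[A]).map (QuotientGroup.mk' K) := fun A hA P' hP' hn => by
    obtain ⟨P, h1, rfl, h3⟩ := exists_lift h.qp K (.inl hK) hP'
    have h4 := (map_le_iff_le_comap.1 hn).trans h3
    refine ⟨P, h1, h4, rfl, ?_⟩
    rw [← map_commutator]
    rintro _ ⟨⟨x, hx : x ∈ ⁅P, A⁆, rfl⟩, hx'⟩
    have h5 : A ≤ 𝐍[⁅P, A⁆] := le_normalizer_commutator h4 le_normalizer
    have h6 : IsPGroup q ↥⁅P, A⁆ := h1.to_le (commutator_comm P A ▸ Solv.commutator_le_of_le_normalizer h4)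
    have := Fact.mk h.qp
    have := h6.isNilpotent
    obtain ⟨y, hy, e⟩ := Solv.coprime_fixed_coset A _ h5 (h.cop hA h6) (.inr inferInstance) (⁅P, A⁆ ⊓ K) inf_le_left
      (le_normalizer_inf h5 le_normalizer_of_normal) x hx fun a ha =>
        ⟨⁅P, A⁆.mul_mem (inv_mem hx) (conj_mem_of_mem_normalizer (h5 ha) hx), QuotientGroup.eq.1 (by
          have := hx' _ ⟨a, ha, rfl⟩
          rw [QuotientGroup.mk_mul, QuotientGroup.mk_inv, eq_mul_inv_iff_mul_eq]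
          exact this.symm)⟩
    exact ⟨y, hy, (QuotientGroup.eq.2 e.2).symm⟩
  refine { h with card := ?_, inv := ?_, line := ?_, n1 := ?_, n2 := ?_, n3 := ?_, n4 := ?_ }
  · rintro _ ⟨A, hA, rfl⟩
    refine ((Nat.dvd_prime h.pp).1 (h.card A hA ▸ card_map_dvd A _)).resolve_left fun e => h.ne_bot hA ?_
    rw [card_eq_one, Subgroup.map_eq_bot_iff, QuotientGroup.ker_mk'] at e
    rw [← h.inf_eq_bot hA hK, inf_of_le_right e]
  · rintro _ ⟨A, hA, rfl⟩ g
    obtain ⟨g, rfl⟩ := s g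
    exact ⟨_, h.inv A hA g, map_cj _ g A⟩
  · rintro _ ⟨A, hA, rfl⟩ _ ⟨B, hB, rfl⟩
    obtain ⟨Q, h1, h2, h3⟩ := h.line A hA B hB
    exact ⟨_, h1.map _, (map_mono h2).trans (le_normalizer_map _), (map_mono h3).trans (Subgroup.map_sup _ _ _).le⟩
  · rintro _ ⟨A, hA, rfl⟩ P' hP' hn
    obtain ⟨P, h1, h2, rfl, h4⟩ := l A hA P' hP' hn
    exact h4.trans ((map_mono (h.n1 A hA P h1 h2)).trans ((c _).trans_eq (by rw [map_commutator])))
  · rintro _ ⟨A, hA, rfl⟩ P' hP' hn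
    obtain ⟨P, h1, h2, rfl, h4⟩ := l A hA P' hP' hn
    simpa only [map_commutator] using (map_mono (h.n2 A hA P h1 h2)).trans (c A)
  · rintro _ ⟨A, hA, rfl⟩ P' hP' hn x hx
    obtain ⟨P, h1, h2, rfl, h4⟩ := l A hA P' hP' hn
    rw [← map_commutator] at hx
    obtain ⟨x, hx, rfl⟩ := hx
    exact c A ⟨_, h.n3 A hA P h1 h2 x hx, map_mul _ _ _⟩
  · rintro _ ⟨A, hA, rfl⟩ P' hP' hn x hx
    obtain ⟨P, h1, h2, rfl, h4⟩ := l A hA P' hP' hn
    obtain ⟨y, hy, rfl⟩ := h4 hx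
    rw [← map_mul, h.n4 A hA P h1 h2 y hy, map_one]

/-- copy of the first case of `FrD.Pre.concl_of_quot` -/
theorem Pre.concl_of_quot (h : Pre p q D) (K : Subgroup G) [K.Normal] (hK : IsPGroup q K)
    (hc : Concl q ((fun A : Subgroup G => A.map (QuotientGroup.mk' K)) '' D)) : Concl q D := by
  intro A hA
  obtain ⟨R', h1, h2, h3⟩ := hc _ ⟨A, hA, rfl⟩
  obtain ⟨R, h4, rfl, h5⟩ := exists_lift h.qp K (.inl hK) h2
  have : R.Normal := normalizer_eq_top_iff.1 (top_le_iff.1 fun g _ => h5 (le_normalizer_of_normal (mem_top _)))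
  have h6 : ∀ B ∈ D, B ≤ R ⊔ A ⊔ K := fun B hB => by
    have := h3 _ ⟨B, hB, rfl⟩
    rwa [← Subgroup.map_sup, Subgroup.map_le_map_iff, QuotientGroup.ker_mk'] at this
  exact ⟨R ⊔ K, inferInstance, isPGroup_sup h4 hK le_normalizer_of_normal, fun B hB =>
    (h6 B hB).trans_eq (sup_right_comm _ _ _)⟩

/-- PROOF.  Copy `sm`, `sing`, `gen`, `noK` from `FrD.Hyp.red`. -/
theorem Hyp.red {G : Type u} [Group G] [Finite G] {p q : ℕ} {D : Set (Subgroup G)} (h : Hyp p q D)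
    (ih : ∀ (G' : Type u) [Group G'] [Finite G'] (D' : Set (Subgroup G')),
      Nat.card G' < Nat.card G → Hyp p q D' → Concl q D') :
    Concl q D ∨ Ce p q D := by
  refine or_iff_not_imp_left.2 fun hc => ?_
  have sm : ∀ H : Subgroup G, H ≠ ⊤ → Sm q D H := fun H hH =>
    h.toPre.sm_of_concl H (ih H _ (Grp.card_lt_of_ne_top hH) (h.sub H))
  refine ⟨h, ?_, ?_, fun K _ hK => ?_, sm⟩
  · by_contra k
    have hH : dcl D ⊤ ≠ ⊤ := fun e => k (top_le_iff.1 (e.ge.trans (dcl_le_iff.2 fun B hB _ => le_sSup hB)))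
    obtain ⟨h1, h2⟩ := sm _ hH
    refine hc fun A hA => ⟨rad D (dcl D ⊤), normalizer_eq_top_iff.1 (top_le_iff.1
      ((h.le_normalizer_dcl ⊤).trans (h.normalizer_le_rad _))), h1, fun B hB => ?_⟩
    rw [← (h2 A hA (le_dcl hA le_top)).1]
    exact le_dcl hB (le_dcl hB le_top)
  · by_contra! k
    exact hc fun A hA => ⟨⊥, inferInstance, IsPGroup.of_bot, fun B hB => (k B hB A hA).le.trans le_sup_right⟩
  · by_contra k
    exact hc (h.concl_of_quot K hK (ih _ _ (Grp.card_quotient_lt K k) (h.quot K hK)))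

end Cfsg.Agent.Q3
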