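import Mathlib
import Cfsg.Agent.Q3.Defs
import Cfsg.Agent.FrD.B0
import Cfsg.Agent.Grp.PFrattini

/-!
S3256 (port of Q2 without nc, p ≥ 5): the two types of lines for `q = 2`.
-/

set_option autoImplicit false
set_option linter.unusedSectionVars false
set_option linter.unusedVariables false

namespace Cfsg.Agent.Q3

open Subgroup Cfsg Cfsg.Agent.PLocal.Amb Cfsg.Agent.FrD
open scoped commutatorElement

variable {G : Type*} [Group G] [Finite G] {p : ℕ} {D : Set (Subgroup G)}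

/-- the elements of square `1` of a commutative subgroup -/
def niceSq (Q : Subgroup G) (hQ : Q ≤ 𝐂[Q]) : Subgroup G where
  carrier := {x | x ∈ Q ∧ x * x = 1}
  one_mem' := ⟨one_mem _, one_mul _⟩
  mul_mem' := fun {x y} hx hy => ⟨mul_mem hx.1 hy.1, by
    rw [mul_assoc, ← mul_assoc y, hQ hx.1 y hy.1, mul_assoc, hy.2, mul_one, hx.2]⟩
  inv_mem' := fun hx => ⟨inv_mem hx.1, by rw [← mul_inv_rev, hx.2, inv_one]⟩

theorem nice_sq (h : IsSpecial 2 G) : (∀ x : G, x * x ∈ center G) ∧ ∀ x ∈ center G, x * x = 1 := by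
  have k : ∀ x : G, x * x ∈ center G := fun x => h.2.1.le (pow_two x ▸ Grp.PFrattini.pow_mem_frattini h.1 x)
  refine ⟨k, fun x hx => ((commutator_le (H₃ := niceSq (center G) fun x hx y _ => mem_center_iff.1 hx y)).2
    (fun a _ b _ => ?_) (h.2.2.ge hx)).2⟩
  have m : ⁅a, b⁆ ∈ center G := h.2.2.le (commutator_mem_commutator trivial trivial)
  refine ⟨m, ?_⟩
  calc ⁅a, b⁆ * ⁅a, b⁆ = a * ⁅a, b⁆ * a⁻¹ * ⁅a, b⁆ := by rw [mem_center_iff.1 m a, mul_inv_cancel_right]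
    _ = ⁅a * a, b⁆ := by simp only [commutatorElement_def]; group
    _ = 1 := commutatorElement_eq_one_iff_mul_comm.2 (mem_center_iff.1 (k a) b).symm

theorem Pre.nice1 (h : Pre p 2 D)
    (h1 : ∀ A ∈ D, ∀ B ∈ D, A ≠ B → ⁅⁅A ⊔ B, A ⊔ B⁆, ⁅A ⊔ B, A ⊔ B⁆⁆ ≠ ⊥) {A : Subgroup G}
    (hA : A ∈ D) {P : Subgroup G} (hP : IsPGroup 2 P) (hn : A ≤ 𝐍[P]) :
    ⁅P, A⁆ ⊓ 𝐂[A] ≤ 𝐂[⁅P, A⁆] ∧ ⁅⁅P, A⁆, ⁅P, A⁆⁆ ≤ 𝐂[A] ∧ (∀ x ∈ ⁅P, A⁆, x * x ∈ 𝐂[A]) ∧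
      ∀ x ∈ ⁅P, A⁆ ⊓ 𝐂[A], x * x = 1 := by
  obtain ⟨a, ho, rfl⟩ := h.exists_gen hA
  have := Fact.mk h.qp
  have key : ∀ X : Subgroup G, IsPGroup 2 X → zpowers a ≤ 𝐍[X] → X ≤ 𝐂[X] → X ≤ 𝐂[zpowers a] :=
    fun X hX hn hc x hx => h.cent_of_norm hA hX hn hx (cj_eq_iff.1 (by_contra fun hne => by
      have l1 : zpowers a ⊔ cj(x, zpowers a) ≤ X ⊔ zpowers a :=
        sup_le le_sup_right (cj_le_of_mem le_sup_right (mem_sup_left hx))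
      have l2 : ⁅X ⊔ zpowers a, X ⊔ zpowers a⁆ ≤ X := commutator_le.2 fun g hg g' hg' => by
        obtain ⟨u, hu, b, hb, rfl⟩ := (mem_sup_of_le_normalizer_left hn).1 hg
        obtain ⟨u', hu', b', hb', rfl⟩ := (mem_sup_of_le_normalizer_left hn).1 hg'
        rw [show ⁅u * b, u' * b'⁆ = u * (b * u' * b⁻¹) * (b * b' * b⁻¹ * u⁻¹ * b'⁻¹) * u'⁻¹ by
          rw [commutatorElement_def]; group, h.comm hA hb' b hb, mul_inv_cancel_right]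
        exact mul_mem (mul_mem (mul_mem hu (conj_mem_of_mem_normalizer (hn hb) hu'))
          (conj_mem_of_mem_normalizer (hn hb') (inv_mem hu))) (inv_mem hu')
      have l3 := (commutator_mono l1 l1).trans l2
      exact h1 _ hA _ (h.inv _ hA x) (Ne.symm hne) (eq_bot_iff.2 ((commutator_mono l3 l3).trans
        (commutator_eq_bot_iff_le_centralizer.2 hc).le))))
  have hR : IsPGroup 2 ↥⁅P, zpowers a⁆ := hP.to_le (Solv.commutator_le_of_le_normalizer hn)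
  have ha := le_normalizer_commutator hn le_normalizer (mem_zpowers a)
  have fx : ∀ x : ↥⁅P, zpowers a⁆, (x : G) ∈ 𝐂[zpowers a] ↔
      ∀ α ∈ zpowers (normalizerMonoidHom _ ⟨a, ha⟩), α x = x := fun x => by
    rw [centralizer_zpowers, mem_centralizer_singleton_iff]
    exact ⟨fun e => (zpowers_le (H := MulAction.stabilizer _ x)).2
        (Subtype.ext (mul_inv_eq_iff_eq_mul.2 e.symm)),
      fun e => (mul_inv_eq_iff_eq_mul.1 (congrArg Subtype.val (e _ (mem_zpowers _)))).symm⟩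
  obtain ⟨s0, s2⟩ := S0119.result hR (zpowers (normalizerMonoidHom _ ⟨a, ha⟩))
    (by
      rw [Nat.card_zpowers]
      exact ((Nat.coprime_primes h.pp h.qp).2 h.pq).coprime_dvd_left
        (orderOf_dvd_of_pow_eq_one (ho ▸ b0_ord ha)))
    (eq_top_iff.2 ((b0_gen ha (h.comm_comm hA hP hn)).ge.trans
      (closure_mono fun _ ⟨x, e⟩ => ⟨x, _, mem_zpowers _, e⟩)))
    fun H hH hH' α hα x hx => (fx x).1 (key (H.map (Subgroup.subtype _)) ((hR.to_subgroup H).map _)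
      (zpowers_le.2 (mem_normalizer_of_cj_le (cj_le_iff_forall.2 (by
        rintro _ ⟨y, hy, rfl⟩
        exact ⟨_, characteristic_iff_le_comap.1 hH (normalizerMonoidHom _ ⟨a, ha⟩) hy, rfl⟩))))
      (by
        rintro _ ⟨y, hy, rfl⟩ _ ⟨z, hz, rfl⟩
        exact congrArg (fun t : H => ((t : ↥⁅P, zpowers a⁆) : G)) (hH'.is_comm.comm ⟨z, hz⟩ ⟨y, hy⟩))
      ⟨x, hx, rfl⟩) α hα
  exact ⟨fun c hc y hy => congrArg Subtype.val (mem_center_iff.1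
      ((s2 ⟨c, hc.1⟩).2 ((fx _).1 hc.2)) ⟨y, hy⟩),
    commutator_le.2 fun x hx y hy => (fx ⁅⟨x, hx⟩, ⟨y, hy⟩⁆).2 ((s2 _).1
      (s0.2.2.le (commutator_mem_commutator trivial trivial))),
    fun x hx => (fx (⟨x, hx⟩ * ⟨x, hx⟩)).2 ((s2 _).1 ((nice_sq s0).1 _)),
    fun x hx => congrArg Subtype.val ((nice_sq s0).2 ⟨x, hx.1⟩ ((s2 _).2 ((fx _).1 hx.2)))⟩

/-- PROOF.  Copy `FrD.Pre.nice1` (S0119: `R = ⁅P, A⁆` is special with centre `C_R(A)`), which gives `n1`,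
`n2`.  `n3`: `x * x ∈ frattini R = center R` (squares lie in the Frattini subgroup of a 2-group:
`ca find frattini`).  `n4`: `center R = commutator R` is generated by the `⁅x, y⁆`, which are central
with `⁅x, y⁆ * ⁅x, y⁆ = ⁅x * x, y⁆ = 1`; the central elements of square 1 form a subgroup. -/
theorem Pre.hyp (h : Pre p 2 D)
    (h1 : ∀ A ∈ D, ∀ B ∈ D, A ≠ B → ⁅⁅A ⊔ B, A ⊔ B⁆, ⁅A ⊔ B, A ⊔ B⁆⁆ ≠ ⊥) : Hyp p 2 D :=
  { h with
    n1 := fun _ hA _ hP hn => (h.nice1 h1 hA hP hn).1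
    n2 := fun _ hA _ hP hn => (h.nice1 h1 hA hP hn).2.1
    n3 := fun _ hA _ hP hn => (h.nice1 h1 hA hP hn).2.2.1
    n4 := fun _ hA _ hP hn => (h.nice1 h1 hA hP hn).2.2.2 }

/-- PROOF.  `Q = rad D (A ⊔ B) = ⁅A ⊔ B, A ⊔ B⁆` (`line_eq`) is commutative with `⁅Q, A⁆ = Q`
(`sm_line`).  `{x ∈ Q | x * x = 1}` is a subgroup containing `⁅x, a⁆ = x * (a x⁻¹ a⁻¹)`, whose square is
`(x x) * (a (x x)⁻¹ a⁻¹) = 1`. -/
theorem Pre.sq_of_comm (h : Pre p 2 D) {A B : Subgroup G} (hA : A ∈ D) (hB : B ∈ D)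
    (h0 : ⁅⁅A ⊔ B, A ⊔ B⁆, ⁅A ⊔ B, A ⊔ B⁆⁆ = ⊥) (h2 : ∀ x ∈ rad D (A ⊔ B), x * x ∈ 𝐂[A]) :
    ∀ x ∈ rad D (A ⊔ B), x * x = 1 := fun x hx => by
  have hc : rad D (A ⊔ B) ≤ 𝐂[rad D (A ⊔ B)] :=
    commutator_eq_bot_iff_le_centralizer.1 (by rwa [(h.line_eq hA hB).1])
  refine ((commutator_le (H₃ := niceSq _ hc)).2 (fun y hy a ha => ?_)
    (((h.sm_line hA hB).2 A hA le_sup_left).2.ge hx)).2
  have m := conj_mem_of_mem_normalizer (h.le_normalizer_rad _ (mem_sup_left ha)) (inv_mem hy)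
  rw [show ⁅y, a⁆ = y * (a * y⁻¹ * a⁻¹) by rw [commutatorElement_def]; group]
  refine ⟨mul_mem hy m, ?_⟩
  calc _ = y * (a * y⁻¹ * a⁻¹ * y) * (a * y⁻¹ * a⁻¹) := by group
    _ = y * y * (a * (y * y)⁻¹ * a⁻¹) := by rw [hc hy _ m]; group
    _ = 1 := by rw [(inv_mem (h2 y hy)) a ha]; group

end Cfsg.Agent.Q3
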