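import Mathlib
import Cfsg.Agent.Q3.LocA
import Cfsg.Agent.S3289
import Cfsg.Agent.S1225
import Cfsg.Agent.SylT.L5E

/-!
S3256 (port of Q2 without nc, p ≥ 5), case `|Z| ≥ 4`: three lemmas of pure group theory.
-/

set_option autoImplicit false
set_option linter.unusedSectionVars false
set_option linter.unusedVariables false

namespace Cfsg.Agent.Q3

open Subgroup Cfsg Cfsg.Agent.PLocal.Amb
open scoped commutatorElement

variable {G : Type*} [Group G] [Finite G]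

theorem ti_se {Z H : Subgroup G} (h2 : ∀ c ∈ Z, c * c = 1) (hle : Z ≤ H) (hn : H ≤ 𝐍[Z])
    (hti : ∀ c ∈ Z, c ≠ 1 → ∀ g, g * c * g⁻¹ ∈ H → g ∈ H) (hH : H ≠ ⊤) (h1 : Z ≠ ⊥) :
    IsStronglyEmbedded ((H ⊓ normalClosure (Z : Set G)).subgroupOf (normalClosure (Z : Set G))) := by
  have := Fact.mk Nat.prime_two
  obtain ⟨T, hT⟩ := IsPGroup.exists_le_sylow (p := 2) (P := Z)
    (isPGroup_iff.2 fun c hc => ⟨1, by rw [pow_one, pow_two, h2 c hc]⟩)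
  obtain ⟨⟨z, hz⟩, z1⟩ := ne_bot_iff_exists_ne_one.1 h1
  have z2 : z ≠ 1 := fun e => z1 (Subtype.ext e)
  have TH : (T : Subgroup G) ≤ H := inf_eq_left.1 (eq_of_inf_normalizer_le T.isPGroup' inf_le_left
    fun x hx => ⟨hx.1, hti z hz z2 x (conj_mem_of_mem_normalizer hx.2 ⟨hT hz, hle hz⟩).2⟩)
  refine (S3289.result T Z h1 ⟨hT, fun x hx g hg => ?_⟩ H hH (fun s hs s1 g hg => hti s hs s1 g ?_)
    ?_).1
  · by_cases e : x = 1
    · simp [e]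
    · exact conj_mem_of_mem_normalizer (hn (hti x hx e g (TH hg))) hx
  · rw [mem_centralizer_singleton_iff.1 hg, mul_inv_cancel_right]
    exact hle hs
  · rw [show omegaOne 2 Z = Z from le_antisymm ((closure_le _).2 fun x hx => hx.1)
      fun x hx => subset_closure ⟨hx, by rw [pow_two, h2 x hx]⟩]
    exact fun g hg => hti z hz z2 g (hle (conj_mem_of_mem_normalizer hg hz))

theorem ti_top {Z H Y : Subgroup G} (hY : normalClosure (Z : Set G) = Y) (h2 : ∀ c ∈ Z, c * c = 1)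
    (hle : Z ≤ H) (hn : H ≤ 𝐍[Z]) (hti : ∀ c ∈ Z, c ≠ 1 → ∀ g, g * c * g⁻¹ ∈ H → g ∈ H) {g : G}
    (hg : g ∉ H) (h1 : Z ≠ ⊥) :
    Odd (Nat.card ↥(Y ⊓ H ⊓ cj(g, H))) ∧ ∀ c ∈ Z, c ≠ 1 → ∀ c' ∈ Z, c' ≠ 1 →
      ∃ x ∈ Y ⊓ H ⊓ cj(g, H), x * c * x⁻¹ = c' := by
  have se := ti_se h2 hle hn hti (fun e => hg (e ▸ mem_top g)) h1
  have nY : Y.Normal := hY ▸ normalClosure_normal
  have ZY : Z ≤ Y := hY ▸ le_normalClosure
  rw [hY, inf_subgroupOf_right] at se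
  have o2 : ∀ {c : G} (hc : c ∈ Y), c ≠ 1 → c * c = 1 → orderOf (⟨c, hc⟩ : Y) = 2 :=
    fun hc a b => Inv.orderOf_eq_two_iff'.2 ⟨fun e => a (congrArg Subtype.val e), Subtype.ext b⟩
  obtain ⟨⟨z, hz⟩, z1⟩ := ne_bot_iff_exists_ne_one.1 h1
  have z2 : z ≠ 1 := fun e => z1 (Subtype.ext e)
  have zz := h2 z hz
  have yy : g * z * g⁻¹ * (g * z * g⁻¹) = 1 := by rw [conj_mul, zz, mul_one, mul_inv_cancel]
  have yY := nY.conj_mem z (ZY hz) g
  have yH : g * z * g⁻¹ ∉ H := fun k => hg (hti z hz z2 g k)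
  have od := Inv.SE.odd_orderOf_mul se (t := ⟨z, ZY hz⟩) (s := ⟨_, yY⟩) (hle hz) yH
    (o2 _ z2 zz) (o2 _ (fun e => yH (e ▸ one_mem H)) yy)
  rw [← orderOf_coe] at od
  obtain ⟨n, e⟩ := Inv.exists_conj_of_odd_orderOf_mul zz yy od
  have e1 := Inv.conj_pow_eq_inv (Inv.conj_mul_eq_inv_left zz yy) n
  have rY := pow_mem (mul_mem (ZY hz) yY) n
  generalize (z * (g * z * g⁻¹)) ^ n = r at e e1 rY
  have wz : r⁻¹ * z * z * (r⁻¹ * z)⁻¹ = r⁻¹ * z * r := by group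
  have wy : r⁻¹ * z * r = g * z * g⁻¹ := by nth_rw 1 [← e]; group
  have ww : r⁻¹ * z * (r⁻¹ * z) = 1 := by
    nth_rw 2 [← e1]
    calc _ = r⁻¹ * (z * z) * r := by group
      _ = 1 := by rw [zz]; group
  have wH : r⁻¹ * z ∉ H := fun k => yH (wy ▸ wz ▸ mul_mem (mul_mem k (hle hz)) (inv_mem k))
  have wY := mul_mem (inv_mem rY) (ZY hz)
  rw [wy] at wz
  generalize r⁻¹ * z = w at wz ww wH wY
  have cg : cj(g, H) = cj(w, H) := by
    rw [← mul_inv_cancel_left w g, cj_mul, cj_of_mem (hti z hz z2 _ ?_)]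
    rw [show w⁻¹ * g * z * (w⁻¹ * g)⁻¹ = w⁻¹ * (g * z * g⁻¹) * w by group, ← wz]
    simpa [mul_assoc] using hle hz
  have eD : H.subgroupOf Y ⊓ cj((⟨w, wY⟩ : Y), H.subgroupOf Y) =
      (Y ⊓ H ⊓ cj(g, H)).subgroupOf Y := by
    rw [cj_subgroupOf, cg, inf_assoc, inf_subgroupOf_left]
    rfl
  refine ⟨?_, fun c hc c1 c' hc' c1' => ?_⟩
  · rw [← Nat.card_congr (subgroupOfEquivOfLe (inf_le_left.trans inf_le_left :
      Y ⊓ H ⊓ cj(g, H) ≤ Y)).toEquiv, ← eD]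
    exact se.2.2 _ wH
  · obtain ⟨x, hx, k⟩ := (S1225.result _ se ⟨w, wY⟩ (o2 _ (fun e => wH (e ▸ one_mem H)) ww) wH
      ⟨c, ZY hc⟩ ⟨c', ZY hc'⟩ (o2 _ c1 (h2 c hc)) (hle hc) (o2 _ c1' (h2 c' hc')) (hle hc')).1
    rw [eD] at hx
    exact ⟨x, hx, congrArg Subtype.val k⟩

/-- PROOF.  Work in `X = ↥C` with `Z' = Z.subgroupOf C`, `H' = H.subgroupOf C ≠ ⊤`; `Y` is the image of
`normalClosure Z'`.  A Sylow 2-subgroup `T ≥ Z'` lies in `H'` (else `lt_inf_normalizer` gives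
`x ∈ T`, `x ∉ H'` normalising `T ⊓ H' ∋ c`, against `hti`), so `Z'` is strongly closed in `T`
(`hti`, `hn`); `omegaOne 2 Z' = Z'`; S3289: `H' ⊓ Y` is strongly embedded in `Y`.  For `1 ≠ z ∈ Z`,
`z° = g z g⁻¹ ∈ Y`, `z° ∉ H`; `z z°` has odd order (`Inv.SE.odd_orderOf_mul`), so an involution
`w ∈ Y` has `w z w⁻¹ = z°` (`exists_conj_of_odd_orderOf_mul` gives `(z z°) ^ n`; multiply by `z`);
`w ∉ H`, `w⁻¹ g` centralises `z`, so lies in `H`, `cj(g, H) = cj(w, H)`.  Oddness is the definition of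
strongly embedded, transitivity is S1225. -/
theorem ti_odd {C Z H : Subgroup G} (hZC : Z ≤ C) (h2 : ∀ c ∈ Z, c * c = 1) (hle : Z ≤ H)
    (hn : H ⊓ C ≤ 𝐍[Z]) (hti : ∀ c ∈ Z, c ≠ 1 → ∀ g ∈ C, g * c * g⁻¹ ∈ H → g ∈ H) {g : G}
    (hgC : g ∈ C) (hg : g ∉ H) (h1 : Z ≠ ⊥) :
    Odd (Nat.card ↥((⨆ x ∈ C, cj(x, Z)) ⊓ H ⊓ cj(g, H))) ∧ ∀ c ∈ Z, c ≠ 1 → ∀ c' ∈ Z, c' ≠ 1 →
      ∃ x ∈ (⨆ x ∈ C, cj(x, Z)) ⊓ H ⊓ cj(g, H), x * c * x⁻¹ = c' := by
  have YC : (⨆ x ∈ C, cj(x, Z)) ≤ C := iSup₂_le fun x hx => cj_le_of_mem hZC hx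
  have hY : normalClosure (Z.subgroupOf C : Set C) = (⨆ x ∈ C, cj(x, Z)).subgroupOf C := by
    have : ((⨆ x ∈ C, cj(x, Z)).subgroupOf C).Normal := normal_subgroupOf'
      (le_normalizer_iff_cj.2 fun y hy => cj_le_iff.2 (iSup₂_le fun x hx => cj_le_iff.1 (by
        rw [← cj_mul]
        exact le_iSup₂_of_le (y * x) (mul_mem hy hx) le_rfl)))
    refine le_antisymm (normalClosure_le_normal fun x hx => ?_) (subgroupOf_le_iff.2
      (inf_le_left.trans (iSup₂_le fun x hx => cj_le_iff_forall.2 fun c hc => ?_)))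
    · exact (le_iSup₂_of_le (f := fun x (_ : x ∈ C) => cj(x, Z)) 1 (one_mem C) (cj_one Z).ge :) hx
    · exact ⟨_, normalClosure_normal.conj_mem ⟨c, hZC hc⟩ (subset_normalClosure hc) ⟨x, hx⟩, rfl⟩
  generalize (⨆ x ∈ C, cj(x, Z)) = Y at YC hY ⊢
  obtain ⟨a, b⟩ := ti_top (H := H.subgroupOf C) (g := ⟨g, hgC⟩) hY
    (fun c hc => Subtype.ext (h2 c hc)) (fun c hc => hle hc)
    (fun x hx => by rw [← subgroupOf_normalizer_eq hZC]; exact hn ⟨hx, x.2⟩)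
    (fun c hc c1 x hx => hti c hc (fun e => c1 (Subtype.ext e)) x x.2 hx) hg
    (fun e => h1 (by rw [← map_subgroupOf_of_le hZC, e, Subgroup.map_bot]))
  have e : Y.subgroupOf C ⊓ H.subgroupOf C ⊓ cj((⟨g, hgC⟩ : C), H.subgroupOf C) =
      (Y ⊓ H ⊓ cj(g, H)).subgroupOf C := by
    rw [cj_subgroupOf]
    rfl
  rw [e] at a b
  refine ⟨?_, fun c hc c1 c' hc' c1' => ?_⟩
  · rwa [Nat.card_congr (subgroupOfEquivOfLe
      ((inf_le_left.trans inf_le_left).trans YC)).toEquiv] at a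
  · obtain ⟨x, hx, k⟩ := b ⟨c, hZC hc⟩ hc (fun e => c1 (congrArg Subtype.val e)) ⟨c', hZC hc'⟩ hc'
      fun e => c1' (congrArg Subtype.val e)
    exact ⟨x, hx, congrArg Subtype.val k⟩

/-- PROOF.  The second half of `SylT.se_comm` does not use that `t` is an involution: copy it. -/
theorem se_cent {M R : Subgroup G} {s t : G} (h : IsStronglyEmbedded M) (h2 : Suz.TwoRank G)
    (hR : IsPGroup 2 R) (hs : s ∈ R) (ht : t ∈ R) (s2 : orderOf s = 2) : s * t = t * s := by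
  open Cfsg.Agent.Gold Cfsg.Agent.Inv Cfsg.Agent.Bender in
  obtain ⟨a, b, -⟩ := quot_hyps h h2
  obtain ⟨S, e⟩ := Bender.exists_sylow_normalizer_eq a b (Grp.pPrimeCore_quotient_pPrimeCore 2 G)
  let π := QuotientGroup.mk' (oddCore G)
  have o : Odd (Nat.card (oddCore G)) := Bender.odd_of_normal_le h (Bender.oddCore_le h h2)
  obtain ⟨k, -, c⟩ := (isSyl_top S).exists_cj_le (hR.map π) le_top
  have m : ∀ {x}, x ∈ R → k * π x * k⁻¹ ∈ (S : Subgroup _) := fun r =>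
    c (conj_mem_cj k (mem_map_of_mem π r))
  have s3 : orderOf (k * π s * k⁻¹) = 2 :=
    (Inv.orderOf_conj _ _).trans (Bender.orderOf_mk_eq_two o s2)
  obtain ⟨y, hy, y2, y3⟩ := Inv.exists_central_involution_of_isPGroup S.2 fun r =>
    (Inv.orderOf_eq_two_iff'.1 s3).1 (mem_bot.1 (r.le (m hs)))
  rw [e] at a
  obtain ⟨n, hn, e1⟩ := Inv.SE.exists_conj_mem a (le_normalizer hy) (le_normalizer (m hs)) y2 s3
  have e2 := congrArg (fun x => k⁻¹ * (n * x * n⁻¹) * k)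
    (y3 _ (inv_conj_mem_of_mem_normalizer hn (m ht)))
  have e3 : y = n⁻¹ * (k * π s * k⁻¹) * n := by rw [← e1]; group
  have e4 : (t * s)⁻¹ * (s * t) ∈ oddCore G :=
    QuotientGroup.eq.1 (by simpa [e3, π, mul_assoc] using e2)
  exact (inv_mul_eq_one.1 (eq_one_of_isPGroup_of_coprime hR
    (mul_mem (inv_mem (mul_mem ht hs)) (mul_mem hs ht))
    (Nat.coprime_two_right.2 (o.of_dvd_nat (orderOf_dvd_natCard _ e4))))).symm

/-- PROOF.  `B = ⁅R, E⁆ ≤ R` is normalised by `u`.  If `B ≤ Z`: for `x ∈ E`, `⁅·, x⁆ : R → Z` is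
multiplicative and `a`-invariant, so trivial on `⁅R, a⁆ = R ≥ Z` (`hom_comm`, `gen`).  Else `exists_W`
gives `ρ ∈ B ⊓ W d u`, `ρ ∉ Z`; `W = ⁅W, a⁆ ⊔ W ⊓ Z` (`comm_sup`, `W_norm`), so `⁅ρ, x⁆ ∈ Z` for `x ∈ E`.
In the commutative group `V = R ⧸ Z` of exponent 2 the norm `ν y = ∏ x : E, x y x⁻¹` is an
`E`-invariant homomorphism, so kills `B`, and `ν ρ = ρ ^ |E| = ρ`; so `ρ ∈ Z`.  (Or: in `L ⧸ Z`,
`⁅V, E⁆ ⊓ C(E) = ⊥` for coprime action on a commutative group, `ca find commutator_inf_centralizer`.) -/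
theorem Lc0.cent_of_odd {p : ℕ} {d : Dat G} (h : Lc0 p d) {u : G} (hu : u ∈ d.L) (hP : Pl d u) (h2 : u * u = 1)
    {E : Subgroup G} (hE : Odd (Nat.card E)) (hL : E ≤ d.L) (ha : ∀ x ∈ E, d.a * x = x * d.a)
    (hn : u ∈ 𝐍[E]) (hc : ⁅W d u, zpowers d.a⁆ ≤ 𝐂[E]) : E ≤ 𝐂[d.Z] := by
  by_cases hB : ⁅d.R, E⁆ ≤ d.Z
  · intro x hx
    have e : W d x = d.R := le_antisymm (h.W_le x) fun ρ hρ =>
      h.mem_W.2 ⟨hρ, hB (commutator_mem_commutator hρ hx)⟩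
    have k := h.comm_W_cent (hL hx) (ha x hx)
    rw [e, h.gen] at k
    exact mem_centralizer_iff.2 fun c hc => mem_centralizer_singleton_iff.1 (k (h.ZR hc))
  obtain ⟨ρ, hρ, hW, hZ⟩ := h.exists_W hu h2 (le_normalizer_iff_commutator_le_left.1 (hL.trans h.nR))
    (cj_eq_iff.1 (by rw [← commutator_cj, cj_of_mem_normalizer (h.nR hu), cj_of_mem_normalizer hn]))
    hB
  have cs := h.comm_sup (h.W_le u) (h.W_norm hP)
  have k : ∀ x ∈ E, W d u ≤ W d x := fun x hx => cs.ge.trans (sup_le (fun y hy => h.mem_W.2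
    ⟨h.W_le u ((le_sup_left.trans cs.le) hy), by
      rw [commutatorElement_eq_one_iff_mul_comm.2 (mem_centralizer_iff.1 (hc hy) x hx).symm]
      exact one_mem _⟩) (inf_le_right.trans (h.Z_le_W (hL hx))))
  have := Fact.mk Nat.prime_two
  have := normal_subgroupOf' h.nZ
  have := normal_subgroupOf' h.nR
  let π := QuotientGroup.mk' (d.Z.subgroupOf d.L)
  have c1 : ∀ {x y : d.L}, ⁅(x : G), (y : G)⁆ ∈ d.Z → π x * π y = π y * π x := fun {x y} e =>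
    commutatorElement_eq_one_iff_mul_comm.1 (by
      rw [← map_commutatorElement]; exact (QuotientGroup.eq_one_iff _).2 e)
  have : IsMulCommutative ((d.R.subgroupOf d.L).map π) := ⟨⟨by
    rintro ⟨_, x, hx, rfl⟩ ⟨_, y, hy, rfl⟩
    exact Subtype.ext (c1 (h.comm_mem hx hy))⟩⟩
  have := Normal.map ‹(d.R.subgroupOf d.L).Normal› π (QuotientGroup.mk'_surjective _)
  have e := Solv.coprime_centralizer_inf_commutator ((E.subgroupOf d.L).map π)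
    ((d.R.subgroupOf d.L).map π) le_normalizer_of_normal
    (Solv.coprime_card_of_isPGroup ((isPGroup_subgroupOf h.pg _).map π)
      (Nat.coprime_two_right.2 (hE.of_dvd_nat ((card_map_dvd _ π).trans
        (card_comap_dvd_of_injective E _ d.L.subtype_injective)))))
  have ρR := h.W_le u hW
  have m : π ⟨ρ, h.RL ρR⟩ ∈ (⊥ : Subgroup _) := by
    rw [← e]
    refine ⟨⟨mem_map_of_mem π ρR, mem_centralizer_iff.2 ?_⟩, ?_⟩
    · rintro _ ⟨x, hx, rfl⟩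
      exact (c1 (h.mem_W.1 (k x hx hW)).2).symm
    · rw [← map_commutator]
      refine mem_map_of_mem π (mem_map_subtype.1 ?_)
      rwa [map_commutator, map_subgroupOf_of_le h.RL, map_subgroupOf_of_le hL]
  exact absurd ((QuotientGroup.eq_one_iff _).1 (mem_bot.1 m)) hZ

end Cfsg.Agent.Q3
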