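import Mathlib
import Cfsg.Agent.Q3.FamB
import Cfsg.Agent.Q3.TwoA

/-!
S3256 (port of Q2 without nc; copy the proofs of Q2/TwoB: `Fl` has the new field `nz`,
`le_normalizer_of_mem` wants `X ≤ 𝐂[A]`, `not_cent_le` wants `nz`, `cent_of_odd` wants `pl_of_comm`), case `|Z| ≥ 4`.  `A = zpowers a`, `d = dat D M a` (use `h.lc0`, lemmas of `LocA`).
-/

set_option autoImplicit false
set_option linter.unusedSectionVars false
set_option linter.unusedVariables false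

namespace Cfsg.Agent.Q3

open Subgroup Cfsg Cfsg.Agent.PLocal.Amb Cfsg.Agent.FrD
open scoped commutatorElement

variable {G : Type*} [Group G] [Finite G] {p : ℕ} {D : Set (Subgroup G)}

theorem tB_two {Z : Subgroup G} (h1 : Z ≠ ⊥) (hZ : Nat.card Z ≠ 2) :
    ∃ c ∈ Z, ∃ c' ∈ Z, c ≠ 1 ∧ c' ≠ 1 ∧ c ≠ c' := by
  obtain ⟨⟨c, hc⟩, n⟩ := Subgroup.ne_bot_iff_exists_ne_one.1 h1
  by_contra k
  push Not at k
  exact hZ ((Nat.card_eq_two_iff' 1).2 ⟨⟨c, hc⟩, n, fun y hy => Subtype.ext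
    (k _ y.2 _ hc (fun e => hy (Subtype.ext e)) fun e => n (Subtype.ext e))⟩)

theorem tB_ex {Z : Subgroup G} (h1 : Z ≠ ⊥) : ∃ c ∈ Z, c ≠ 1 := by
  obtain ⟨⟨c, hc⟩, n⟩ := Subgroup.ne_bot_iff_exists_ne_one.1 h1
  exact ⟨c, hc, fun e => n (Subtype.ext e)⟩

theorem tB_mem {a u : G} : u ∈ 𝐂[zpowers a] ↔ a * u = u * a := by
  rw [centralizer_zpowers, mem_centralizer_singleton_iff, eq_comm]

theorem tB_ord {C : Subgroup G} {c : G} (hc : c ∈ C) (h2 : c * c = 1) (h1 : c ≠ 1) :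
    orderOf (⟨c, hc⟩ : C) = 2 :=
  orderOf_eq_prime (Subtype.ext (by simpa [pow_two] using h2)) fun e => h1 (congrArg Subtype.val e)

namespace Ce

variable (h : Ce p 2 D) {M M' : Subgroup G} {a u : G}
include h

theorem tB_cj (f : Fl D M a) (f' : Fl D M' a) {c g : G} (hc : c ∈ (dat D M a).Z) (h1 : c ≠ 1)
    (hg : g ∈ 𝐂[zpowers a]) (hn : g * c * g⁻¹ ∈ 𝐍[M']) : M' = cj(g, M) :=
  h.blk_eq_of_norm (h.blk_cj f.blk g) f'.blk f.pt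
    ((cj_of_mem_normalizer (centralizer_le_normalizer' _ hg)).ge.trans (cj_mono g f.le)) f'.le
    (c := g * c * g⁻¹) ⟨by rw [h.rad_cj]; exact conj_mem_cj g hc.1,
      Subgroup.mul_mem _ (Subgroup.mul_mem _ hg hc.2) (Subgroup.inv_mem _ hg)⟩ (fun e => h1 (by
        rw [show c = g⁻¹ * (g * c * g⁻¹) * g by group, e]; group)) hn

/-- `g ∈ C(A)` carrying `c ∈ Z` into `𝐍[M]` normalises `M` (`dat_conj`, `fl_cj`, `blk_eq_of_norm`). -/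
theorem mem_normalizer_of_conj (f : Fl D M a) {c g : G} (hc : c ∈ (dat D M a).Z) (h1 : c ≠ 1)
    (hg : g ∈ 𝐂[zpowers a]) (hn : g * c * g⁻¹ ∈ 𝐍[M]) : g ∈ 𝐍[M] := 
  cj_eq_iff.1 (h.tB_cj f f hc h1 hg hn).symm

/-- PROOF.  Suppose `M ≠ M'`.  `R₀ = R ⊓ R'`, `C₁ = 𝐂[A] ⊓ 𝐂[R₀] ≥ Z, Z'`, `H = 𝐍[M]`.  A Sylow 2-subgroup
`T ≥ Z` of `C₁` lies in `H` (`le_normalizer_of_mem`); for `1 ≠ z' ∈ Z'` (`card_Z`) some `g ∈ C₁` has
`g⁻¹ z' g ∈ T`, so `M = cj(g⁻¹, M')` (`blk_eq_of_norm`), `cj(g, H) = 𝐍[M']`, `g ∉ H`.  `ti_odd` gives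
`E = Y ⊓ 𝐍[M] ⊓ 𝐍[M']` of odd order, transitive on the nonidentity elements of `Z`.  `u` normalises `C₁`,
`Z`, `Y`, `E`.  `E ≤ C₁` centralises `a` and `R₀ ≥ ⁅W d u, A⁆` (`comm_W_le`), so `E ≤ 𝐂[Z]`
(`cent_of_odd`).  `Z` has two different nonidentity elements (else its order is at most 2). -/
theorem blk_eq_of_inv (f : Fl D M a) (f' : Fl D M' a) (h1 : (dat D M a).Z ≠ ⊥)
    (hZ : Nat.card (dat D M a).Z ≠ 2) (hu : u * u = 1) (hu1 : u ≠ 1) (ha : a * u = u * a)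
    (hn : u ∈ 𝐍[M]) (hn' : u ∈ 𝐍[M']) : M = M' := by
  by_contra ne
  have := Fact.mk Nat.prime_two
  have l := h.lc0 f h1
  have h1' : (dat D M' a).Z ≠ ⊥ := fun e => h1 (by
    rw [← Subgroup.card_eq_one, h.card_Z f f', e, card_bot])
  have l' := h.lc0 f' h1'
  have zc : (dat D M a).Z ≤ 𝐂[zpowers a] ⊓ 𝐂[rad D M ⊓ rad D M'] :=
    le_inf inf_le_right (l.Zc.trans (centralizer_anti inf_le_left))
  have zc' : (dat D M' a).Z ≤ 𝐂[zpowers a] ⊓ 𝐂[rad D M ⊓ rad D M'] :=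
    le_inf inf_le_right (l'.Zc.trans (centralizer_anti inf_le_right))
  have uA := tB_mem.2 ha
  have uC : zpowers u ≤ 𝐍[𝐂[zpowers a] ⊓ 𝐂[rad D M ⊓ rad D M']] :=
    le_normalizer_inf ((zpowers_le.2 uA).trans le_normalizer) (le_normalizer_centralizer
      (le_normalizer_inf (zpowers_le.2 (l.nR hn)) (zpowers_le.2 (l'.nR hn'))))
  have c1 : 𝐂[zpowers a] ⊓ 𝐂[rad D M ⊓ rad D M'] ≤ 𝐂[zpowers a] := inf_le_left
  have c2 : 𝐂[zpowers a] ⊓ 𝐂[rad D M ⊓ rad D M'] ≤ 𝐂[rad D M ⊓ rad D M'] := inf_le_right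
  generalize 𝐂[zpowers a] ⊓ 𝐂[rad D M ⊓ rad D M'] = C at zc zc' uC c1 c2
  obtain ⟨T, hT, zT⟩ := exists_isSyl_ge (l.pg.to_le l.ZR) zc
  obtain ⟨c, hc, c', hc', n, n', nn⟩ := tB_two h1 hZ
  have TH : T ≤ 𝐍[M] := h.le_normalizer_of_mem f.blk f.pt f.le hT.2
    (hT.1.trans c1) hc n (zT hc)
  obtain ⟨g, hg, e⟩ := hT.exists_cj_le (l'.pg.to_le l'.ZR) zc'
  obtain ⟨z, hz, z1⟩ := tB_ex h1'
  have e1 : M = cj(g, M') := h.tB_cj f' f hz z1 (c1 hg) (TH (e (conj_mem_cj g hz)))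
  have e2 : cj(g⁻¹, M) = M' := by rw [e1, cj_inv_cj]
  obtain ⟨o1, o2⟩ := ti_odd (H := 𝐍[M]) zc l.Z2 (l.ZR.trans l.RL) (inf_le_left.trans l.nZ)
    (fun c hc n g hg k => h.mem_normalizer_of_conj f hc n (c1 hg) k) (inv_mem hg)
    (fun k => ne ((cj_of_mem_normalizer k).symm.trans e2)) h1
  rw [← normalizer_cj, e2] at o1 o2
  have yC : (⨆ x ∈ C, cj(x, (dat D M a).Z)) ≤ C := iSup₂_le fun x hx => cj_le_of_mem zc hx
  have uY : zpowers u ≤ 𝐍[⨆ x ∈ C, cj(x, (dat D M a).Z)] := zpowers_le.2 (mem_normalizer_of_cj_le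
    (cj_le_iff.2 (iSup₂_le fun x hx => cj_le_iff.1 (by
      rw [← cj_mul, show u * x = u * x * u⁻¹ * u by group, cj_mul, cj_of_mem_normalizer (l.nZ hn)]
      exact le_iSup₂_of_le _ (conj_mem_of_mem_normalizer (uC (mem_zpowers u)) hx) le_rfl))))
  have eC := (inf_le_left.trans inf_le_left :
    (⨆ x ∈ C, cj(x, (dat D M a).Z)) ⊓ 𝐍[M] ⊓ 𝐍[M'] ≤ _).trans yC
  have k := l.cent_of_odd hn (pl_of_comm ha) hu o1 (inf_le_left.trans inf_le_right) (fun x hx => tB_mem.1 (c1 (eC hx)))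
    (le_normalizer_inf (le_normalizer_inf uY ((zpowers_le.2 hn).trans le_normalizer))
      ((zpowers_le.2 hn').trans le_normalizer) (mem_zpowers u))
    ((le_inf (h.comm_W_le f f h1 hu hu1 ha hn hn) (h.comm_W_le f f' h1 hu hu1 ha hn hn')).trans
      (le_centralizer_iff.1 (eC.trans c2)))
  obtain ⟨x, hx, e3⟩ := o2 c hc n c' hc' n'
  exact nn (by rw [← e3, ← k hx c hc, mul_inv_cancel_right])

/-- PROOF.  `Inv.isStronglyEmbedded_iff`, `not_cent_le`; if `t` and `g t g⁻¹` normalise `M` then `t`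
normalises `M` and `cj(g⁻¹, M)`, `blk_eq_of_inv`. -/
theorem se (f : Fl D M a) (h1 : (dat D M a).Z ≠ ⊥) (hZ : Nat.card (dat D M a).Z ≠ 2) :
    IsStronglyEmbedded ((𝐍[M]).subgroupOf 𝐂[zpowers a]) := by
  have l := h.lc0 f h1
  obtain ⟨c, hc, n⟩ := tB_ex h1
  refine Inv.isStronglyEmbedded_iff.2 ⟨fun e => h.not_cent_le f.blk f.pt f.le f.nz (subgroupOf_eq_top.1 e),
    even_iff_two_dvd.2 ?_, fun t ht o g hg => ?_⟩
  · rw [← tB_ord (C := 𝐂[zpowers a]) hc.2 (l.Z2 c hc) n]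
    exact orderOf_dvd_natCard _ (mem_subgroupOf.2 (l.RL (l.ZR hc)))
  have f' := h.fl_cj f (g⁻¹ : G)
  rw [← tB_mem.1 (inv_mem g.2), mul_inv_cancel_right] at f'
  have t2 : (t : G) * t = 1 := by
    have := congrArg Subtype.val (pow_orderOf_eq_one t)
    rwa [o, pow_two] at this
  have t1 : (t : G) ≠ 1 := fun e => by
    rw [show t = 1 from Subtype.ext e, orderOf_one] at o
    exact absurd o (by decide)
  have e := h.blk_eq_of_inv f f' h1 hZ t2 t1 (tB_mem.1 t.2) (mem_subgroupOf.1 ht) (by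
    rw [normalizer_cj, mem_cj, inv_inv]; exact mem_subgroupOf.1 hg)
  exact mem_subgroupOf.2 (inv_mem_iff.1 (cj_eq_iff.1 e.symm))

/-- PROOF.  `se`, `Inv.SE.exists_conj_mem` with an involution of `Z`, `nZ`. -/
theorem mem_Z_two (f : Fl D M a) (h1 : (dat D M a).Z ≠ ⊥) (hZ : Nat.card (dat D M a).Z ≠ 2)
    (hn : u ∈ 𝐍[M]) (ha : a * u = u * a) (hu : u * u = 1) : u ∈ (dat D M a).Z := by
  by_cases u1 : u = 1
  · exact u1 ▸ one_mem _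
  have l := h.lc0 f h1
  obtain ⟨c, hc, n⟩ := tB_ex h1
  obtain ⟨k, hk, e⟩ := Inv.SE.exists_conj_mem (h.se f h1 hZ) (s := ⟨c, hc.2⟩) (t := ⟨u, tB_mem.2 ha⟩)
    (mem_subgroupOf.2 (l.RL (l.ZR hc))) (mem_subgroupOf.2 hn) (tB_ord _ (l.Z2 c hc) n) (tB_ord _ hu u1)
  have e' : (k : G) * c * (k : G)⁻¹ = u := congrArg Subtype.val e
  exact e' ▸ l.lA_nz (mem_subgroupOf.1 hk) hc

/-- PROOF.  If `|Z| = 2`, `𝐍[M] ≤ 𝐍[Z]` centralises `Z`.  Else `x = ρ u` (`fac`), `u ∈ R ⊔ zpowers x` is a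
2-element of `𝐂[A]`, `Z ⊔ zpowers u` is a 2-group, `se_cent` in `↥𝐂[A]` (`Suz.TwoRank` from two
nonidentity elements of `Z`); `ρ` centralises `Z`. -/
theorem two_cent (f : Fl D M a) (h1 : (dat D M a).Z ≠ ⊥) {x : G} (hx : x ∈ 𝐍[M])
    (hP : Pl (dat D M a) x) (h2 : ∃ k, x ^ 2 ^ k = 1) : x ∈ 𝐂[(dat D M a).Z] := by
  have l := h.lc0 f h1
  intro c hc
  by_cases n : c = 1
  · rw [n, one_mul, mul_one]
  by_cases hZ : Nat.card (dat D M a).Z = 2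
  · obtain ⟨y, -, hy⟩ := (Nat.card_eq_two_iff' 1).1 hZ
    have e : x * c * x⁻¹ = c := congrArg Subtype.val ((hy ⟨_, l.lA_nz hx hc⟩ fun e => n (by
      have e' : x * c * x⁻¹ = 1 := congrArg Subtype.val e
      rw [show c = x⁻¹ * (x * c * x⁻¹) * x by group, e']; group)).trans
        (hy ⟨c, hc⟩ fun e => n (congrArg Subtype.val e)).symm)
    exact (mul_inv_eq_iff_eq_mul.1 e).symm
  obtain ⟨ρ, hρ, u, ha, e⟩ := hP
  have eu : u = ρ⁻¹ * x := by rw [e, inv_mul_cancel_left]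
  have uL : u ∈ (dat D M a).L := eu ▸ mul_mem (inv_mem (l.RL hρ)) hx
  have u2 : ∃ k, u ^ 2 ^ k = 1 := isPGroup_iff.1 (isPGroup_sup (isPGroup_zpowers h2) l.pg
    (zpowers_le.2 (l.nR hx))) u (eu ▸ mul_mem (mem_sup_right (inv_mem hρ)) (mem_sup_left (mem_zpowers x)))
  obtain ⟨z, hz, z', hz', m, m', mm⟩ := tB_two h1 hZ
  have k := se_cent (h.se f h1 hZ) ⟨⟨z, hz.2⟩, ⟨z', hz'.2⟩, fun e => m (congrArg Subtype.val e),
    fun e => m' (congrArg Subtype.val e), fun e => mm (congrArg Subtype.val e), Subtype.ext (l.Z2 z hz),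
    Subtype.ext (l.Z2 z' hz'), Subtype.ext (l.lA_zc hz' (l.ZR hz))⟩
    (isPGroup_subgroupOf (isPGroup_sup (isPGroup_zpowers u2) (l.pg.to_le l.ZR) (zpowers_le.2 (l.nZ uL))) _)
    (s := ⟨c, hc.2⟩) (t := ⟨u, tB_mem.2 ha⟩) (mem_subgroupOf.2 (mem_sup_right hc))
    (mem_subgroupOf.2 (mem_sup_left (mem_zpowers u))) (tB_ord hc.2 (l.Z2 c hc) n)
  have k' : c * u = u * c := congrArg Subtype.val k
  rw [e, ← mul_assoc, ← l.lA_zc hc hρ, mul_assoc, k', mul_assoc]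

end Ce

end Cfsg.Agent.Q3
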