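import Mathlib
import Cfsg.Agent.Q3.Defs

/-! S3256 (port of Q2 without nc, p ≥ 5) (port of FrD): blocks, first lemmas.  For a block `M ∋ A` write `R = rad D M`, `Z = R ⊓ 𝐂[A]`. -/

set_option autoImplicit false

namespace Cfsg.Agent.Q3

open Subgroup Cfsg Cfsg.Agent.PLocal.Amb Cfsg.Agent.FrD
open scoped commutatorElement

variable {G : Type*} [Group G] [Finite G] {p q : ℕ} {D : Set (Subgroup G)}

namespace Ce

variable (h : Ce p q D) {A H M M' X : Subgroup G}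
include h

/-- PROOF.  Take a counterexample `X` with `X₀ = X ⊓ 𝐍[M]` of largest order.  `⊥ ≠ X₀ < X`, `A`
normalises `X₀`, `X₁ = X ⊓ 𝐍[X₀] > X₀` (`lt_inf_normalizer`), `K = 𝐍[X₀] ≠ ⊤`.
`Y = rad D K ⊔ X₁` is an `A`-invariant `q`-group (`le_normalizer_rad`, `isPGroup_sup`) and a
counterexample with `X₀ ≤ Y ⊓ 𝐍[M]`, so `Y ⊓ 𝐍[M] = X₀`.  `W = R ⊓ K` has
`⁅W, A⁆ ≤ rad D K ⊓ R ≤ X₀` (`comm_le_rad`), so `W ≤ X₀` (`comm_sup`, `hZ`).  In the `q`-group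
`P = X₀ ⊔ R`, `P ⊓ K = X₀ ⊔ W = X₀` (`sup_inf_of_le_normalizer`), so `P = X₀`
(`eq_of_inf_normalizer_le`), `R ≤ X`.  Then `M = R ⊔ A ≤ 𝐍[X] ≠ ⊤`, `dcl D 𝐍[X] = M`, and
`X ≤ 𝐍[X] ≤ 𝐍[M]` (`le_normalizer_dcl`), contradiction. -/
theorem star (hM : Blk D M) (hA : A ∈ D) (hAM : A ≤ M) (hX : IsPGroup q X) (hn : A ≤ 𝐍[X])
    (hZ : rad D M ⊓ 𝐂[A] ≤ X) (h1 : X ⊓ rad D M ≠ ⊥) : X ≤ 𝐍[M] := by
  haveI := Fact.mk h.qp
  have hR := h.rad_pg hM.ne_top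
  have RM : rad D M ≤ 𝐍[M] := (rad_le M).trans le_normalizer
  have AM : A ≤ 𝐍[M] := hAM.trans le_normalizer
  have AR : A ≤ 𝐍[rad D M] := hAM.trans (h.le_normalizer_rad M)
  induction e : X ⊓ 𝐍[M] using WellFoundedGT.induction generalizing X with
  | ind X₀ ih =>
  by_contra k
  have lt : X₀ < X := e ▸ inf_lt_left.2 k
  have q0 : IsPGroup q X₀ := hX.to_le lt.le
  have r0 : X ⊓ rad D M ≤ X₀ := e ▸ inf_le_inf_left _ RM
  have z0 : rad D M ⊓ 𝐂[A] ≤ X₀ := (le_inf hZ inf_le_left).trans r0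
  have n0 : X₀ ≠ ⊥ := fun b => h1 (le_bot_iff.1 (b ▸ r0))
  have A0 : A ≤ 𝐍[X₀] := e ▸ le_normalizer_inf hn (AM.trans le_normalizer)
  have l1 := lt_inf_normalizer hX lt
  have hK := h.normalizer_ne_top q0 n0
  have KK := h.le_normalizer_rad 𝐍[X₀]
  have y0 : X₀ ≤ X ⊓ 𝐍[X₀] ⊔ rad D 𝐍[X₀] := l1.le.trans le_sup_left
  have eY : (X ⊓ 𝐍[X₀] ⊔ rad D 𝐍[X₀]) ⊓ 𝐍[M] ≤ X₀ := by
    by_contra k'
    refine l1.not_ge (le_trans (le_inf inf_le_left (le_sup_left.trans (ih _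
      (lt_of_le_of_ne (le_inf y0 (e ▸ inf_le_right)) fun b => k' b.ge)
      (isPGroup_sup (hX.to_le inf_le_left) (h.rad_pg hK) (inf_le_right.trans KK))
      (le_normalizer_sup (le_normalizer_inf hn (A0.trans le_normalizer)) (A0.trans KK))
      (z0.trans y0) (fun b => h1 (le_bot_iff.1 (b ▸ le_inf (r0.trans y0) inf_le_right))) rfl)))
      e.le)
  have qW : IsPGroup q ↥(rad D M ⊓ 𝐍[X₀]) := hR.to_le inf_le_left
  have AW : A ≤ 𝐍[rad D M ⊓ 𝐍[X₀]] := le_normalizer_inf AR (A0.trans le_normalizer)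
  have W0 : rad D M ⊓ 𝐍[X₀] ≤ X₀ := by
    rw [← h.comm_sup hA qW AW]
    exact sup_le ((le_inf ((h.comm_le_rad hA qW AW inf_le_right A0).trans le_sup_right)
      ((Solv.commutator_le_of_le_normalizer AW).trans (inf_le_left.trans RM))).trans eY)
      ((inf_le_inf_right _ inf_le_left).trans z0)
  have XR : X₀ ≤ 𝐍[rad D M] := (e.ge.trans inf_le_right).trans (h.normalizer_le_rad M)
  have eP := eq_of_inf_normalizer_le (isPGroup_sup q0 hR XR) le_sup_left (by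
    rw [sup_inf_of_le_normalizer le_normalizer XR]; exact sup_le le_rfl W0)
  have RX : rad D M ≤ X := (le_sup_right.trans eP.ge).trans lt.le
  have MX : M ≤ 𝐍[X] := (h.blk_eq hM hA hAM).le.trans (sup_le (RX.trans le_normalizer) hn)
  have hN := h.normalizer_ne_top hX fun b => h1 (by rw [b, bot_inf_eq])
  have eM : dcl D 𝐍[X] = M := le_antisymm (hM.max _ hN MX) (hM.eq.ge.trans (dcl_mono MX))
  exact k (le_normalizer.trans (eM ▸ h.le_normalizer_dcl 𝐍[X]))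

omit h in
theorem le_cent_of_mem {c : G} (hc : c ∈ 𝐂[H]) : H ≤ centralizer {c} := fun x hx =>
  mem_centralizer_singleton_iff.2 (hc x hx)

/-- PROOF.  `M = dcl D M ≤ C(c) ≠ ⊤` (`cent_rad`), `hM.max`. -/
theorem dcl_cent (hM : Blk D M) (hA : A ∈ D) (hAM : A ≤ M) {c : G} (hc : c ∈ rad D M ⊓ 𝐂[A])
    (h1 : c ≠ 1) : dcl D (centralizer {c}) = M := by
  have hMc : M ≤ centralizer {c} := hM.eq.ge.trans (le_cent_of_mem (h.cent_rad hM.ne_top hA hAM hc))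
  exact le_antisymm (hM.max _ (h.cent_ne_top (h.rad_pg hM.ne_top) hc.1 h1) hMc) (hM.eq.ge.trans (dcl_mono hMc))

/-- PROOF.  `dcl D H ≤ C(c)` (`cent_rad`), `dcl_le_dcl`, `dcl_cent`. -/
theorem le_blk_of_cent (hM : Blk D M) (hA : A ∈ D) (hAM : A ≤ M) (hH : H ≠ ⊤) (hAH : A ≤ H) {c : G}
    (hc : c ∈ rad D M ⊓ 𝐂[A]) (hcH : c ∈ rad D H) (h1 : c ≠ 1) : dcl D H ≤ M := by
  rw [← h.dcl_cent hM hA hAM hc h1]
  exact dcl_le_dcl (le_cent_of_mem (h.cent_rad hH hA hAH ⟨hcH, hc.2⟩))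

/-- If `Z` normalises `dcl D H` and `Z ≠ ⊥` or `rad D H ⊓ R ≠ ⊥` then `rad D H ≤ R`.
PROOF.  `star` with `X = rad D H ⊔ Z`, then `rad D H = ⁅rad D H, A⁆ ≤ R` (`comm_le_rad_blk`). -/
theorem rad_le_of_norm (hM : Blk D M) (hA : A ∈ D) (hAM : A ≤ M) (hH : H ≠ ⊤) (hAH : A ≤ H)
    (hZ : rad D M ⊓ 𝐂[A] ≤ 𝐍[dcl D H])
    (h1 : rad D M ⊓ 𝐂[A] ≠ ⊥ ∨ rad D H ⊓ rad D M ≠ ⊥) : rad D H ≤ rad D M := by
  have AH : A ≤ 𝐍[rad D H] := hAH.trans (h.le_normalizer_rad H)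
  have := h.star hM hA hAM (isPGroup_sup ((h.rad_pg hM.ne_top).to_le inf_le_left) (h.rad_pg hH)
    (hZ.trans (normalizer_dcl_le H))) (le_normalizer_sup (le_normalizer_inf
      (hAM.trans (h.le_normalizer_rad M)) ((h.comm hA).trans le_normalizer)) AH) le_sup_left
    fun b => h1.elim (fun k => k (le_bot_iff.1 (b ▸ le_inf le_sup_left inf_le_left)))
      fun k => k (le_bot_iff.1 (b ▸ inf_le_inf_right _ le_sup_right))
  rw [← h.rad_comm hH hA hAH]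
  exact h.comm_le_rad_blk hM hA hAM (h.rad_pg hH) AH (le_sup_right.trans this)

theorem pair_aux (hM : Blk D M) (hM' : Blk D M') (hne : M ≠ M') (hA : A ∈ D) (hAM : A ≤ M)
    (hAM' : A ≤ M') (h0 : rad D M ⊓ rad D M' ≠ ⊥) :
    rad D M ⊓ 𝐂[A] ≠ ⊥ ∧ rad D 𝐍[rad D M ⊓ rad D M'] ≤ rad D M := by
  have hZ : rad D M ⊓ 𝐂[A] ≠ ⊥ := fun b => by
    have := h.rad_le_of_norm hM hA hAM hM'.ne_top hAM' (b.le.trans bot_le)
      (Or.inr (by rwa [inf_comm]))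
    exact hne (hM'.eq_of_le hM ((h.blk_eq hM' hA hAM').le.trans
      (sup_le (this.trans (rad_le M)) hAM))).symm
  refine ⟨hZ, h.rad_le_of_norm hM hA hAM (h.normalizer_ne_top
    ((h.rad_pg hM.ne_top).to_le inf_le_left) h0) (le_normalizer_inf
      (hAM.trans (h.le_normalizer_rad M)) (hAM'.trans (h.le_normalizer_rad M'))) ?_ (Or.inl hZ)⟩
  exact (((h.cent_rad hM.ne_top hA hAM).trans (centralizer_le
    (inf_le_left.trans (rad_le_dcl M) : rad D M ⊓ rad D M' ≤ dcl D M))).trans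
      (centralizer_le_normalizer _)).trans (h.le_normalizer_dcl _)

/-- Two blocks on `A` with `R₀ = R ⊓ R' ≠ ⊥`.  PROOF.  If `Z = ⊥`, `rad_le_of_norm` with `H = M'`
gives `R' ≤ R`, `M' ≤ M` (`blk_eq`), `M' = M` (`Blk.eq_of_le`).  So `Z ≠ ⊥` (and `Z' ≠ ⊥`), `rad_cases`.
`Z ⊓ Z' = ⊥` by `dcl_cent`.  `K = 𝐍[R₀] ≠ ⊤` contains `A`, and `Z ≤ 𝐂[M] ≤ 𝐂[R₀] ≤ K ≤ 𝐍[dcl D K]`
(`cent_rad`), so `rad D K ≤ R`; likewise `rad D K ≤ R'`. -/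
theorem pair (hM : Blk D M) (hM' : Blk D M') (hne : M ≠ M') (hA : A ∈ D) (hAM : A ≤ M)
    (hAM' : A ≤ M') (h0 : rad D M ⊓ rad D M' ≠ ⊥) :
    rad D M ⊓ 𝐂[A] ≠ ⊥ ∧ ⁅rad D M, rad D M⁆ ≤ 𝐂[A] ∧ rad D M ⊓ rad D M' ⊓ 𝐂[A] = ⊥ ∧
      rad D 𝐍[rad D M ⊓ rad D M'] ≤ rad D M ⊓ rad D M' := by
  obtain ⟨h1, h2⟩ := h.pair_aux hM hM' hne hA hAM hAM' h0
  obtain ⟨-, h3⟩ := h.pair_aux hM' hM hne.symm hA hAM' hAM (by rwa [inf_comm])
  rw [inf_comm (rad D M')] at h3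
  refine ⟨h1, (h.rad_cases hM.ne_top hA hAM).resolve_left h1,
    (eq_bot_iff_forall _).2 fun c hc => by_contra fun k => hne ?_, le_inf h2 h3⟩
  rw [← h.dcl_cent hM hA hAM ⟨hc.1.1, hc.2⟩ k, h.dcl_cent hM' hA hAM' ⟨hc.1.2, hc.2⟩ k]

end Ce

end Cfsg.Agent.Q3
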