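import Mathlib
import Cfsg.Agent.Q3.LocP

/-!
S3256 (Q3 = port of Q2 without `nc`): adjacent data.
-/

set_option autoImplicit false
set_option linter.unusedSectionVars false
set_option linter.unusedVariables false

namespace Cfsg.Agent.Q3

open Subgroup Cfsg Cfsg.Agent.PLocal.Amb
open scoped commutatorElement

variable {G : Type*} [Group G] [Finite G] {p : ℕ} {𝓕 : Set (Dat G)} {d e : Dat G}

namespace Fam

variable (h : Fam p 𝓕) (hd : d ∈ 𝓕) (he : e ∈ 𝓕) {z c τ ρ : G}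
include h hd he

/-- PROOF.  `z = ρ u` (`dec1`, `dec2`); `ρ ∈ B = W ⊓ 𝐂[W]`, `W = W d z` (`⁅x, ρ⁆ = ⁅x, z⁆ = 1`), `B` is
`a`-invariant and commutative, so `ρ ρ = 1` (`ab`), `u u = 1`, `u ∈ Z` (`h.dec`), `z ∈ R`, `W = R`
(`comm_mem`), `cent_of_R`. -/
theorem cent_of_W (ha : Adj d e) (hz : z ∈ e.Z) (h1 : z ≠ 1)
    (hW : W d z ≤ centralizer ({z} : Set G)) : d.R ≤ 𝐂[e.Z] := fun ρ hρ => by
  have L := (h.loc d hd).toLc0
  have k : ∀ x ∈ W d z, ⁅x, z⁆ = 1 := fun x hx =>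
    commutatorElement_eq_one_iff_mul_comm.2 (mem_centralizer_singleton_iff.1 (hW hx))
  exact h.cent_of_R hd he hρ hz h1 (k ρ (L.mem_W.2 ⟨hρ, L.comm_mem hρ
    (h.mem_R hd he ha hz le_rfl (L.W_norm (h.pl_Z hd he hz (h.le_L hd he ha hz))) k fun _ a _ => a)⟩))

/-- PROOF.  Suppose `R ≤ 𝐂[e.Z]`, so `R ≤ e.L`.  If `e.R ≤ 𝐂[Z]` then `e.R ≤ L` and `h.mx` gives
`Z = e.Z`.  Else take `1 ≠ c ∈ Z`; by `cent_of_W` for `(e, d)` there is `g ∈ W e c` with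
`z' = ⁅g, c⁆ ≠ 1`, `z' ∈ e.Z`, `g c g⁻¹ = z' c`.  `d' = d.conj g`: `d'.R = cj(g, R)` centralises `e.Z`
(`g ∈ e.R ≤ 𝐂[e.Z]`) and `z' c ∈ d'.Z`, so it centralises `c` and lies in `L`; `R` centralises
`z' c ≠ 1`, so `R ≤ d'.L`.  `h.mx` gives `Z = d'.Z ∋ z' c`, so `z' ∈ Z`, `disj`. -/
theorem not_cent (ha : Adj d e) : ¬ d.R ≤ 𝐂[e.Z] := fun hR => by
  by_cases k : e.R ≤ 𝐂[d.Z]
  · exact ha.1 (h.mx hd he (h.le_L_of he hR) (h.le_L_of hd k))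
  obtain ⟨c, hc, c1⟩ := h.exZ hd
  obtain ⟨g, hg, gc⟩ := SetLike.not_le_iff_exists.1 fun k' => k (h.cent_of_W he hd ha.symm hc c1 k')
  obtain ⟨gR, hz⟩ := (h.loc e he).mem_W.1 hg
  have hd' := h.inv d hd g
  have m : g * c * g⁻¹ ∈ (d.conj g).Z := conj_mem_cj g hc
  have e1 : g * c * g⁻¹ = ⁅g, c⁆ * c := by rw [commutatorElement_def, inv_mul_cancel_right]
  have e2 := h.mx hd hd' (fun ρ hρ => (h.loc _ hd').cent _ m (by simpa using c1)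
      (mem_centralizer_singleton_iff.2 (e1 ▸ (Commute.mul_right (hR hρ _ hz).symm ((h.loc d hd).Zc hc ρ hρ)))))
    fun x hx => (h.loc d hd).cent c hc c1 (mem_centralizer_singleton_iff.2 (by
      have a : Commute x ⁅g, c⁆ := (cj_le_of_mem hR (le_centralizer_iff.1 (h.loc e he).Zc gR) hx _ hz).symm
      have b : Commute x (⁅g, c⁆ * c) := e1 ▸ (h.loc _ hd').Zc m x hx
      exact inv_mul_cancel_left ⁅g, c⁆ c ▸ a.inv_right.mul_right b))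
  exact gc (mem_centralizer_singleton_iff.2 (commutatorElement_eq_one_iff_mul_comm.1
    (h.disj hd he ha (mul_mem (e2 ▸ m) (inv_mem hc)) hz)))

/-- PROOF.  Else `WW ≤ 𝐂[e.Z]`.  For `1 ≠ z = ρ u ∈ e.Z`: `ρ` commutes with `z`, so `ρ ∈ 𝐂[e.Z]`
(`cent_of_R`), `ρ ∈ WW`; for `x ∈ WW ≤ W d z`, `⁅x, ρ⁆ = ⁅x, z⁆ = 1`.  `ab` with `WW ⊓ 𝐂[WW]` gives
`ρ ρ = 1`, so `u ∈ Z`, `z ∈ R`.  So `e.Z ≤ R`, `WW = R` (`comm_mem`), against `not_cent`. -/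
theorem exists_WW (ha : Adj d e) : ∃ ρ ∈ WW d e, ρ ∉ 𝐂[e.Z] := by
  by_contra! k
  have L := (h.loc d hd).toLc0
  refine h.not_cent hd he ha fun ρ hρ => k ρ (L.mem_WW.2 ⟨hρ, fun z hz => L.comm_mem hρ ?_⟩)
  by_cases h1 : z = 1
  · exact h1 ▸ one_mem _
  exact h.mem_R hd he ha hz (fun x hx => L.mem_W.2 ((L.mem_WW.1 hx).imp_right (· z hz))) (h.WW_norm hd he ha)
    (fun x hx => commutatorElement_eq_one_iff_mul_comm.2 (k x hx z hz).symm) fun x hx c =>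
      L.mem_WW.2 ⟨L.W_le _ hx, fun y hy => by
        rw [commutatorElement_eq_one_iff_mul_comm.2 (h.cent_of_R hd he (L.W_le _ hx) hz h1 c y hy).symm]
        exact one_mem _⟩

end Fam

end Cfsg.Agent.Q3
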