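import Mathlib
import Cfsg.Agent.Q3.LocD1

/-!
S3256 (port of Q2 without nc, p ≥ 5), local theorem D: case β is impossible.  `E = Z ⊔ e.Z` is elementary abelian, its elements are the
`c z`, `c ∈ Z`, `z ∈ e.Z`.
-/

set_option autoImplicit false
set_option linter.unusedSectionVars false
set_option linter.unusedVariables false

namespace Cfsg.Agent.Q3

open Subgroup Cfsg Cfsg.Agent.PLocal.Amb
open scoped commutatorElement

variable {G : Type*} [Group G] [Finite G] {p : ℕ} {𝓕 : Set (Dat G)} {d e : Dat G}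

namespace Fam

variable (h : Fam p 𝓕) (hd : d ∈ 𝓕) (he : e ∈ 𝓕) (ha : Adj d e)
include h hd he ha

/-- PROOF.  `b = a ^ i` from `Beta`, `T = R ⊓ 𝐂[e.Z]`, `T₁ = cj(b, T) = R ⊓ 𝐂[cj(b, e.Z)]`,
`cj(b, e.Z) = (e.conj b).Z ≤ T₁`.  Every `y ∈ R` with `y y = 1` lies in `T` or `T₁`: fix `1 ≠ z ∈ e.Z`,
take `ρ ∈ cj(b, e.Z)` with `⁅ρ, z⁆ = ⁅y, z⁆`, `t = ρ⁻¹ y` commutes with `z` (`comm_mul`, `W d z = R`),
`t ∈ T`; if `ρ ≠ 1` then `ρ t ρ t = ρ ρ = t t = 1` makes `t` commute with `ρ`, `t ∈ T₁` (`cent_of_R`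
with `e.conj b`), `y = ρ t ∈ T₁`.  `T₂ = cj(b * b, T) ≤ R` has exponent 2, so lies in the union of two
subgroups, so in one of them, and equals it by orders: `b * b` or `b` normalises `T`; as `b ^ p = 1`
with `p` odd, `b` does.  So `cj(b, e.Z) ≤ T₁ = T`, against `Beta` with `c ≠ 1`. -/
theorem not_beta (hb : Beta d e) : False := by
  have l := (h.loc d hd).toLc0
  obtain ⟨-, k2⟩ := h.le_R hd he ha hb.1
  obtain ⟨c, hc, c1⟩ := h.locd_ex hd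
  obtain ⟨z, hz, z1⟩ := h.locd_ex he
  obtain ⟨i, hi⟩ := hb.2 k2
  have bR : d.a ^ i ∈ 𝐍[d.R] := l.nR (pow_mem l.aL i)
  have bp : (d.a ^ i) ^ p = 1 := by rw [← pow_mul, mul_comm, pow_mul, ← l.ord, pow_orderOf_eq_one, one_pow]
  generalize d.a ^ i = b at hi bR bp
  have l' := (h.loc _ (h.inv e he b)).toLc0
  have T1 : cj(b, d.R ⊓ 𝐂[e.Z]) = d.R ⊓ 𝐂[cj(b, e.Z)] := by
    rw [cj_inf, cj_of_mem_normalizer bR, centralizer_cj]
  have Z1 : cj(b, e.Z) ≤ d.R ⊓ 𝐂[cj(b, e.Z)] :=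
    le_inf (cj_le_of_mem_normalizer k2 bR) (l'.Zc.trans (centralizer_anti l'.ZR))
  have A : ∀ y ∈ d.R, y * y = 1 → y ∈ d.R ⊓ 𝐂[e.Z] ∨ y ∈ cj(b, d.R ⊓ 𝐂[e.Z]) := fun y hy y2 => by
    obtain ⟨ρ, hρ, q⟩ := hi z hz z1 _ (l.comm_mem hy (k2 hz))
    have tR : ρ⁻¹ * y ∈ d.R := mul_mem (inv_mem (mem_inf.1 (Z1 hρ)).1) hy
    have tT : ρ⁻¹ * y ∈ d.R ⊓ 𝐂[e.Z] := ⟨tR, h.cent_of_R hd he tR hz z1 (by
      rw [show ⁅ρ⁻¹ * y, z⁆ = ρ⁻¹ * (⁅y, z⁆ * z) * ρ * z⁻¹ by simp only [commutatorElement_def]; group, ← q,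
        commutatorElement_def]
      group)⟩
    by_cases r1 : ρ = 1
    · rw [r1, inv_one, one_mul] at tT
      exact Or.inl tT
    have t2 := h.sq_T hd he ha hb tT
    have r2 := inv_eq_of_mul_eq_one_right (l'.Z2 ρ hρ)
    rw [T1]
    refine Or.inr ⟨hy, h.cent_of_R hd (h.inv e he b) hy hρ r1 ?_⟩
    rw [r2] at t2
    rw [commutatorElement_def, inv_eq_of_mul_eq_one_right y2, r2,
      show y * ρ * y * ρ = ρ⁻¹ * (ρ * y * (ρ * y)) * ρ by group, t2, mul_one, inv_mul_cancel]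
  have B : ∀ y ∈ cj(b * b, d.R ⊓ 𝐂[e.Z]), y ∈ d.R ⊓ 𝐂[e.Z] ∨ y ∈ cj(b, d.R ⊓ 𝐂[e.Z]) := by
    rintro _ ⟨y, hy, rfl⟩
    refine A _ (conj_mem_of_mem_normalizer (mul_mem bR bR) hy.1) ?_
    rw [← map_mul, h.sq_T hd he ha hb hy, map_one]
  have N : b ∈ 𝐍[d.R ⊓ 𝐂[e.Z]] := by
    by_cases c : cj(b * b, d.R ⊓ 𝐂[e.Z]) ≤ d.R ⊓ 𝐂[e.Z]
    · obtain ⟨k, hk⟩ := l.pp.odd_of_ne_two l.p2
      have := pow_mem (mem_normalizer_of_cj_le c) (k + 1)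
      rwa [← pow_two, ← pow_mul, show 2 * (k + 1) = p + 1 by omega, pow_succ, bp, one_mul] at this
    obtain ⟨u, hu, un⟩ := SetLike.not_le_iff_exists.1 c
    refine mem_normalizer_of_cj_le ((cj_le_cj_iff (g := b)).1 (cj_mul b b _ ▸ fun v hv => ?_))
    refine (B v hv).elim (fun hv' => (B _ (mul_mem hu hv)).elim
      (fun q => absurd ((mul_mem_cancel_right hv').1 q) un)
      fun q => (mul_mem_cancel_left ((B u hu).resolve_left un)).1 q) id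
  rw [← T1, cj_of_mem_normalizer N] at Z1
  obtain ⟨ρ, hρ, q⟩ := hi z hz z1 c hc
  exact c1 (q.symm.trans (commutatorElement_eq_one_iff_mul_comm.2 ((Z1 hρ).2 z hz).symm))

end Fam

end Cfsg.Agent.Q3
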